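import Mathlib
import Cfsg.Agent.Lib.Involutions.Basic
import Cfsg.Agent.Lib.PSL2.CoatomPair

/-!
Groups in which every nontrivial subgroup with at most two prime divisors has a maximal normalizer.
-/

set_option autoImplicit false

namespace CfsgLib.MaxNorm

open Subgroup

variable {G : Type*} [Group G]

/-- The order of `H` has at most two prime divisors. -/
def TwoPrime (H : Subgroup G) : Prop :=
  ∃ p q : ℕ, p.Prime ∧ q.Prime ∧ ∀ r : ℕ, r.Prime → r ∣ Nat.card H → r = p ∨ r = q

/-- Every nontrivial two-prime subgroup has a maximal normalizer. -/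
def NormMax (G : Type*) [Group G] : Prop :=
  ∀ H : Subgroup G, H ≠ ⊥ → TwoPrime H → IsCoatom (normalizer (H : Set G))

theorem TwoPrime.of_isPGroup [Finite G] {p : ℕ} [hp : Fact p.Prime] {H : Subgroup G}
    (h : IsPGroup p H) : TwoPrime H := by
  obtain ⟨n, hn⟩ := IsPGroup.iff_card.1 h
  exact ⟨p, p, hp.out, hp.out, fun r hr hd =>
    Or.inl ((Nat.prime_dvd_prime_iff_eq hr hp.out).1 (hr.dvd_of_dvd_pow (hn ▸ hd)))⟩

theorem twoPrime_zpowers {p q a b : ℕ} (hp : p.Prime) (hq : q.Prime) {x : G}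
    (hx : orderOf x ∣ p ^ a * q ^ b) : TwoPrime (zpowers x) := by
  refine ⟨p, q, hp, hq, fun r hr hd => ?_⟩
  rw [Nat.card_zpowers] at hd
  rcases hr.dvd_mul.1 (hd.trans hx) with h | h
  · exact Or.inl ((Nat.prime_dvd_prime_iff_eq hr hp).1 (hr.dvd_of_dvd_pow h))
  · exact Or.inr ((Nat.prime_dvd_prime_iff_eq hr hq).1 (hr.dvd_of_dvd_pow h))

theorem twoPrime_zpowers_pow {p a : ℕ} (hp : p.Prime) {x : G} (hx : orderOf x ∣ p ^ a) :
    TwoPrime (zpowers x) :=
  twoPrime_zpowers (a := a) (b := 0) hp hp (by simpa using hx)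

theorem mem_norm_zpowers [Finite G] {c g : G} :
    g ∈ normalizer (zpowers c : Set G) ↔ g * c * g⁻¹ ∈ zpowers c :=
  CfsgLib.PSL2.mem_normalizer_zpowers c g

theorem centralizer_le_norm [Finite G] (c : G) :
    centralizer ({c} : Set G) ≤ normalizer (zpowers c : Set G) := fun g hg => by
  rw [mem_norm_zpowers, show g * c * g⁻¹ = c by rw [mem_centralizer_singleton_iff.1 hg, mul_inv_cancel_right]]
  exact mem_zpowers c

theorem mul_mem_centralizer_iff {c g : G} : g ∈ centralizer ({c} : Set G) ↔ g * c * g⁻¹ = c := by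
  rw [mem_centralizer_singleton_iff]
  exact ⟨fun h => by rw [h, mul_inv_cancel_right],
    fun h => (mul_inv_eq_iff_eq_mul.1 h)⟩

theorem eq_or_eq_one_of_mem_zpowers {t z : G} (ht : orderOf t = 2) (hz : z ∈ zpowers t) :
    z = 1 ∨ z = t := by
  obtain ⟨k, rfl⟩ := hz
  rcases Int.even_or_odd k with ⟨j, rfl⟩ | ⟨j, rfl⟩
  · left
    dsimp only
    rw [← two_mul, zpow_mul, zpow_two, CfsgLib.Involutions.mul_self_eq_one ht, one_zpow]
  · right
    dsimp only
    rw [zpow_add, zpow_mul, zpow_two, CfsgLib.Involutions.mul_self_eq_one ht, one_zpow, one_mul, zpow_one]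

theorem norm_zpowers_involution [Finite G] {t : G} (ht : orderOf t = 2) :
    normalizer (zpowers t : Set G) = centralizer ({t} : Set G) := by
  refine le_antisymm (fun g hg => ?_) (centralizer_le_norm t)
  rcases eq_or_eq_one_of_mem_zpowers ht (mem_norm_zpowers.1 hg) with h | h
  · exact absurd (conj_eq_one_iff.1 h) (CfsgLib.Involutions.ne_one_of_involution ht)
  · exact mul_mem_centralizer_iff.2 h

theorem coatom_eq {M K : Subgroup G} (hM : IsCoatom M) (hK : K ≠ ⊤) (hle : M ≤ K) : M = K :=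
  ((hM.le_iff.1 hle).resolve_left hK).symm

theorem NormMax.norm_ne_top (h : NormMax G) {H : Subgroup G} (h1 : H ≠ ⊥) (h2 : TwoPrime H) :
    normalizer (H : Set G) ≠ ⊤ := (h H h1 h2).1

theorem NormMax.norm_eq (h : NormMax G) {H K : Subgroup G} (hH : H ≠ ⊥) (hH2 : TwoPrime H)
    (hK : K ≠ ⊥) (hK2 : TwoPrime K) (hle : normalizer (H : Set G) ≤ normalizer (K : Set G)) :
    normalizer (H : Set G) = normalizer (K : Set G) :=
  coatom_eq (h H hH hH2) (h.norm_ne_top hK hK2) hle

variable [Finite G]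

theorem NormMax.isCoatom_centralizer (h : NormMax G) {t : G} (ht : orderOf t = 2) :
    IsCoatom (centralizer ({t} : Set G)) := by
  rw [← norm_zpowers_involution ht]
  exact h _ (zpowers_ne_bot.2 (CfsgLib.Involutions.ne_one_of_involution ht))
    (twoPrime_zpowers_pow (a := 1) Nat.prime_two (by rw [ht, pow_one]))

theorem NormMax.not_central (h : NormMax G) {t : G} (ht : orderOf t = 2)
    (hc : ∀ g : G, g * t = t * g) : False :=
  (h.isCoatom_centralizer ht).1 (eq_top_iff.2 fun g _ => mem_centralizer_singleton_iff.2 (hc g))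

/-- The normalizer of a product of commuting elements of coprime orders normalizes the first. -/
theorem norm_mul_le {x y : G} (hc : Commute x y) (hco : (orderOf x).Coprime (orderOf y)) :
    normalizer (zpowers (x * y) : Set G) ≤ normalizer (zpowers x : Set G) := by
  intro g hg
  rw [mem_norm_zpowers] at hg ⊢
  obtain ⟨m, hm⟩ := hg
  dsimp only at hm
  obtain ⟨k, hk1, hk2⟩ := Nat.chineseRemainder hco 1 0
  have hx : x = (x * y) ^ k := by
    rw [hc.mul_pow, ← pow_one x, ← pow_mul, one_mul,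
      pow_eq_pow_iff_modEq.2 hk1, pow_one, orderOf_dvd_iff_pow_eq_one.1 (Nat.modEq_zero_iff_dvd.1 hk2),
      mul_one]
  have h1 : g * x * g⁻¹ = x ^ m := by
    conv_lhs => rw [hx]
    rw [← conj_pow, ← hm, ← zpow_natCast, ← zpow_mul, mul_comm, zpow_mul, zpow_natCast, ← hx]
  rw [h1]
  exact zpow_mem (mem_zpowers x) m

/-- Commuting nontrivial elements of coprime prime-power orders have the same normalizer. -/
theorem NormMax.norm_commute (h : NormMax G) {x y : G} (hc : Commute x y) {p q a b : ℕ}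
    (hp : p.Prime) (hq : q.Prime) (hx : orderOf x ∣ p ^ a) (hy : orderOf y ∣ q ^ b) (hpq : p ≠ q)
    (hx1 : x ≠ 1) (hy1 : y ≠ 1) :
    normalizer (zpowers x : Set G) = normalizer (zpowers y : Set G) := by
  have hco : (orderOf x).Coprime (orderOf y) :=
    Nat.Coprime.coprime_dvd_left hx (Nat.Coprime.coprime_dvd_right hy
      (Nat.Coprime.pow a b ((Nat.coprime_primes hp hq).2 hpq)))
  have hne : x * y ≠ 1 := fun e => by
    have hxy : y = x⁻¹ := eq_inv_of_mul_eq_one_right e
    rw [hxy, orderOf_inv, Nat.coprime_self, orderOf_eq_one_iff] at hco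
    exact hx1 hco
  have h2 : TwoPrime (zpowers (x * y)) :=
    twoPrime_zpowers hp hq (hc.orderOf_mul_dvd_mul_orderOf.trans (Nat.mul_dvd_mul hx hy))
  rw [← h.norm_eq (zpowers_ne_bot.2 hne) h2 (zpowers_ne_bot.2 hx1) (twoPrime_zpowers_pow hp hx)
      (norm_mul_le hc hco)]
  have hle : normalizer (zpowers (x * y) : Set G) ≤ normalizer (zpowers y : Set G) := by
    rw [hc.eq]; exact norm_mul_le hc.symm hco.symm
  exact h.norm_eq (zpowers_ne_bot.2 hne) h2 (zpowers_ne_bot.2 hy1) (twoPrime_zpowers_pow hq hy) hle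

/-- An involution commuting with an element of odd prime power order. -/
theorem NormMax.centralizer_eq_norm (h : NormMax G) {q y : G} (hq : orderOf q = 2)
    {p b : ℕ} (hp : p.Prime) (hp2 : p ≠ 2) (hy : orderOf y ∣ p ^ b) (hy1 : y ≠ 1)
    (hc : q * y = y * q) :
    centralizer ({q} : Set G) = normalizer (zpowers y : Set G) := by
  rw [← norm_zpowers_involution hq]
  exact h.norm_commute (a := 1) hc Nat.prime_two hp (by rw [hq, pow_one]) hy (fun e => hp2 e.symm)
    (CfsgLib.Involutions.ne_one_of_involution hq) hy1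

/-- A `2`-element and its involution. -/
theorem NormMax.norm_two_element (h : NormMax G) {s t : G} {a : ℕ} (hs : orderOf s ∣ 2 ^ a)
    (ht : orderOf t = 2) {k : ℕ} (hk : s ^ k = t) :
    normalizer (zpowers s : Set G) = centralizer ({t} : Set G) := by
  have hs1 : s ≠ 1 := fun e => by
    rw [e, one_pow] at hk
    exact CfsgLib.Involutions.ne_one_of_involution ht hk.symm
  have hle : normalizer (zpowers s : Set G) ≤ normalizer (zpowers t : Set G) := fun g hg => by
    rw [mem_norm_zpowers] at hg ⊢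
    obtain ⟨m, hm⟩ := hg
    dsimp only at hm
    have e : g * t * g⁻¹ = t ^ m := by
      rw [← hk, ← conj_pow, ← hm, ← zpow_natCast, ← zpow_mul, mul_comm, zpow_mul, zpow_natCast]
    rw [e]
    exact zpow_mem (mem_zpowers t) m
  rw [← norm_zpowers_involution ht]
  exact h.norm_eq (zpowers_ne_bot.2 hs1) (twoPrime_zpowers_pow Nat.prime_two hs)
    (zpowers_ne_bot.2 (CfsgLib.Involutions.ne_one_of_involution ht))
    (twoPrime_zpowers_pow (a := 1) Nat.prime_two (by rw [ht, pow_one])) hle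

/-! ### Inverted elements -/

omit [Finite G] in
theorem conj_zpow_of_inverts {u x : G} (hux : u * x * u⁻¹ = x⁻¹) (i : ℤ) :
    u * x ^ i * u⁻¹ = x ^ (-i) := by
  rw [← conj_zpow, hux, inv_zpow']

omit [Finite G] in
theorem mul_zpow_of_inverts {u x : G} (hux : u * x * u⁻¹ = x⁻¹) (i : ℤ) :
    u * x ^ i = x ^ (-i) * u :=
  mul_inv_eq_iff_eq_mul.1 (conj_zpow_of_inverts hux i)

/-- The dihedral group generated by an element and an involution inverting it. -/
def dih (x u : G) (hu : u * u = 1) (hux : u * x * u⁻¹ = x⁻¹) : Subgroup G where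
  carrier := {g | g ∈ zpowers x ∨ g * u ∈ zpowers x}
  one_mem' := Or.inl (one_mem _)
  mul_mem' {g g'} hg hg' := by
    have hui : u⁻¹ = u := inv_eq_of_mul_eq_one_right hu
    rcases hg with hg | hg <;> rcases hg' with hg' | hg'
    · exact Or.inl (mul_mem hg hg')
    · exact Or.inr (by rw [mul_assoc]; exact mul_mem hg hg')
    · refine Or.inr ?_
      obtain ⟨i, hi⟩ := hg'
      have e : g * g' * u = g * u * x ^ (-i) := by
        rw [mul_assoc g u, mul_zpow_of_inverts hux, neg_neg, ← mul_assoc, ← hi]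
      rw [e]
      exact mul_mem hg (zpow_mem (mem_zpowers x) _)
    · refine Or.inl ?_
      obtain ⟨i, hi⟩ := hg'
      dsimp only at hi
      have e1 : g' = x ^ i * u := by rw [hi, mul_assoc, hu, mul_one]
      have e : g * g' = g * u * x ^ (-i) := by
        rw [e1, mul_assoc g u, show x ^ i * u = u * x ^ (-i) by rw [mul_zpow_of_inverts hux, neg_neg]]
      rw [e]
      exact mul_mem hg (zpow_mem (mem_zpowers x) _)
  inv_mem' {g} hg := by
    rcases hg with hg | hg
    · exact Or.inl (inv_mem hg)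
    · refine Or.inr ?_
      obtain ⟨i, hi⟩ := hg
      dsimp only at hi
      have e1 : g = x ^ i * u := by rw [hi, mul_assoc, hu, mul_one]
      refine ⟨i, ?_⟩
      dsimp only
      rw [e1, mul_inv_rev, inv_eq_of_mul_eq_one_right hu, mul_assoc, ← zpow_neg,
        ← mul_zpow_of_inverts hux, ← mul_assoc, hu, one_mul]

section Dih

variable {x u : G} (hu2 : orderOf u = 2) (hux : u * x * u⁻¹ = x⁻¹)

include hux in
omit [Finite G] in
theorem mem_dih {g : G} :
    g ∈ dih x u (CfsgLib.Involutions.mul_self_eq_one hu2) hux ↔ g ∈ zpowers x ∨ g * u ∈ zpowers x :=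
  Iff.rfl

include hu2 hux in
omit [Finite G] in
theorem mul_self_of_not_mem {g : G} (hg : g * u ∈ zpowers x) : g * g = 1 := by
  have hu := CfsgLib.Involutions.mul_self_eq_one hu2
  obtain ⟨i, hi⟩ := hg
  dsimp only at hi
  have e1 : g = x ^ i * u := by rw [hi, mul_assoc, hu, mul_one]
  rw [e1, mul_assoc, ← mul_assoc u, mul_zpow_of_inverts hux, mul_assoc (x ^ (-i)), hu, mul_one, zpow_neg,
    mul_inv_cancel]

include hu2 hux in
theorem twoPrime_dih {r b : ℕ} (hr : r.Prime) (hx : orderOf x ∣ r ^ b) :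
    TwoPrime (dih x u (CfsgLib.Involutions.mul_self_eq_one hu2) hux) := by
  refine ⟨r, 2, hr, Nat.prime_two, fun p hp hd => ?_⟩
  haveI := Fact.mk hp
  obtain ⟨⟨g, hg⟩, hgo⟩ := exists_prime_orderOf_dvd_card' p hd
  rw [Subgroup.orderOf_mk] at hgo
  rcases hg with hg | hg
  · refine Or.inl ((Nat.prime_dvd_prime_iff_eq hp hr).1 (hp.dvd_of_dvd_pow (n := b) ?_))
    exact (hgo ▸ orderOf_dvd_of_mem_zpowers hg).trans hx
  · refine Or.inr ((Nat.prime_dvd_prime_iff_eq hp Nat.prime_two).1 ?_)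
    rw [← hgo]
    exact orderOf_dvd_of_pow_eq_one (by rw [pow_two]; exact mul_self_of_not_mem hu2 hux hg)

include hu2 hux in
/-- The normalizer of a cyclic subgroup of odd prime power order normalizes the dihedral group. -/
theorem NormMax.conj_inverting (h : NormMax G) {r b : ℕ} (hr : r.Prime) (hr2 : r ≠ 2)
    (hx : orderOf x ∣ r ^ b) (hx1 : x ≠ 1) {m : G} (hm : m ∈ normalizer (zpowers x : Set G)) :
    ∃ i : ℤ, m * u * m⁻¹ = x ^ i * u := by
  set H := dih x u (CfsgLib.Involutions.mul_self_eq_one hu2) hux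
  have hxH : x ∈ H := Or.inl (mem_zpowers x)
  have huH : u ∈ H := Or.inr (by rw [CfsgLib.Involutions.mul_self_eq_one hu2]; exact one_mem _)
  have hodd : ¬ 2 ∣ orderOf x := fun e =>
    hr2 ((Nat.prime_dvd_prime_iff_eq Nat.prime_two hr).1 (Nat.prime_two.dvd_of_dvd_pow (e.trans hx))).symm
  have hle : normalizer (H : Set G) ≤ normalizer (zpowers x : Set G) := fun g hg => by
    rw [mem_norm_zpowers]
    rcases (Subgroup.mem_normalizer_iff.1 hg x).1 hxH with h1 | h1
    · exact h1
    · exfalso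
      have h2 : orderOf (g * x * g⁻¹) ∣ 2 :=
        orderOf_dvd_of_pow_eq_one (by rw [pow_two]; exact mul_self_of_not_mem hu2 hux h1)
      rw [CfsgLib.Involutions.orderOf_conj_eq] at h2
      rcases (Nat.dvd_prime Nat.prime_two).1 h2 with h3 | h3
      · exact hx1 (orderOf_eq_one_iff.1 h3)
      · exact hodd (h3 ▸ dvd_refl _)
  have hne : H ≠ ⊥ := fun e => hx1 (by rw [e] at hxH; exact mem_bot.1 hxH)
  have heq := h.norm_eq hne (twoPrime_dih hu2 hux hr hx) (zpowers_ne_bot.2 hx1) (twoPrime_zpowers_pow hr hx) hle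
  rw [← heq] at hm
  have hm' := (Subgroup.mem_normalizer_iff.1 hm u).1 huH
  rcases hm' with h1 | h1
  · exfalso
    have h2 := orderOf_dvd_of_mem_zpowers h1
    rw [CfsgLib.Involutions.orderOf_conj_eq, hu2] at h2
    exact hodd h2
  · obtain ⟨i, hi⟩ := h1
    dsimp only at hi
    exact ⟨i, by rw [hi, mul_assoc _ u u, CfsgLib.Involutions.mul_self_eq_one hu2, mul_one]⟩

include hu2 hux in
/-- The normalizer of `⟨x⟩` is `⟨x⟩` times the centralizer of an inverting involution. -/
theorem NormMax.exists_commute (h : NormMax G) {r b : ℕ} (hr : r.Prime) (hr2 : r ≠ 2)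
    (hx : orderOf x ∣ r ^ b) (hx1 : x ≠ 1) {m : G} (hm : m ∈ normalizer (zpowers x : Set G)) :
    ∃ j : ℤ, x ^ j * m * u = u * (x ^ j * m) := by
  obtain ⟨i, hi⟩ := h.conj_inverting hu2 hux hr hr2 hx hx1 hm
  have hodd : Odd (orderOf x) :=
    Odd.of_dvd_nat (((hr.eq_two_or_odd').resolve_left hr2).pow) hx
  obtain ⟨c, hc⟩ := hodd
  refine ⟨i * c, ?_⟩
  have h2 : x ^ (i * (c : ℤ) * 2 + i) = 1 := by
    rw [show i * (c : ℤ) * 2 + i = ((2 * c + 1 : ℕ) : ℤ) * i by push_cast; ring, zpow_mul,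
      zpow_natCast, ← hc, pow_orderOf_eq_one, one_zpow]
  refine mul_inv_eq_iff_eq_mul.1 ?_
  calc x ^ (i * (c : ℤ)) * m * u * (x ^ (i * (c : ℤ)) * m)⁻¹
      = x ^ (i * (c : ℤ)) * (m * u * m⁻¹) * (x ^ (i * (c : ℤ)))⁻¹ := by group
    _ = x ^ (i * (c : ℤ)) * x ^ i * (u * x ^ (-(i * (c : ℤ)))) := by rw [hi, zpow_neg]; group
    _ = x ^ (i * (c : ℤ)) * x ^ i * x ^ (i * (c : ℤ)) * u := by
        rw [mul_zpow_of_inverts hux, neg_neg]; simp only [mul_assoc]
    _ = u := by
        rw [← zpow_add, ← zpow_add, show i * (c : ℤ) + i + i * c = i * c * 2 + i by ring, h2, one_mul]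

include hu2 hux in
/-- A commuting element of odd order inverted by the same involution lies in `⟨x⟩`. -/
theorem NormMax.mem_zpowers_of_inverted (h : NormMax G) {r b : ℕ} (hr : r.Prime) (hr2 : r ≠ 2)
    (hx : orderOf x ∣ r ^ b) (hx1 : x ≠ 1) {y : G} (hyx : y * x = x * y) (hy : Odd (orderOf y))
    (huy : u * y * u⁻¹ = y⁻¹) : y ∈ zpowers x := by
  have hm : y ∈ normalizer (zpowers x : Set G) :=
    centralizer_le_norm x (mem_centralizer_singleton_iff.2 hyx)
  obtain ⟨i, hi⟩ := h.conj_inverting hu2 hux hr hr2 hx hx1 hm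
  have huy' : u * y⁻¹ * u⁻¹ = y := by
    rw [← zpow_neg_one, conj_zpow_of_inverts huy, neg_neg, zpow_one]
  have e : y ^ 2 = x ^ i := by
    calc y ^ 2 = y * (u * y⁻¹ * u⁻¹) := by rw [huy', pow_two]
      _ = (y * u * y⁻¹) * u⁻¹ := by group
      _ = x ^ i := by rw [hi, mul_inv_cancel_right]
  obtain ⟨c, hc⟩ := hy
  have e2 : y = (y ^ 2) ^ (c + 1) := by
    rw [← pow_mul, show 2 * (c + 1) = orderOf y + 1 by omega, pow_succ, pow_orderOf_eq_one, one_mul]
  rw [e2, e]
  exact pow_mem (zpow_mem (mem_zpowers x) i) _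

end Dih

end CfsgLib.MaxNorm
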