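import Mathlib
import Cfsg.Agent.S0215
import Cfsg.Agent.Lib.MaxNorm.Basic

/-!
Common lemmas: almost simple groups with maximal normalizers of two-prime subgroups.
-/

set_option autoImplicit false

namespace CfsgLib.MaxNorm

open Subgroup

variable {G : Type*} [Group G]

/-- A proper subgroup of a `p`-group is properly contained in its normalizer. -/
theorem exists_normalizing [Finite G] {p : ℕ} [Fact p.Prime] {P D : Subgroup G} (hP : IsPGroup p P)
    (hlt : D < P) : ∃ x ∈ P, x ∈ normalizer (D : Set G) ∧ x ∉ D := by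
  haveI := hP.isNilpotent
  have hne : D.subgroupOf P < ⊤ := lt_top_iff_ne_top.2 fun e => not_le_of_gt hlt (subgroupOf_eq_top.1 e)
  obtain ⟨x, hxN, hx⟩ := SetLike.exists_of_lt (Group.normalizerCondition_of_isNilpotent _ hne)
  refine ⟨x, x.2, ?_, fun e => hx (mem_subgroupOf.2 e)⟩
  rw [Subgroup.mem_normalizer_iff] at hxN ⊢
  intro g
  constructor
  · intro hg
    exact mem_subgroupOf.1 ((hxN ⟨g, hlt.le hg⟩).1 (mem_subgroupOf.2 hg))
  · intro hg
    have hgP : g ∈ P := by
      have := P.mul_mem (P.mul_mem (P.inv_mem x.2) (hlt.le hg)) x.2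
      simpa [mul_assoc] using this
    exact mem_subgroupOf.1 ((hxN ⟨g, hgP⟩).2 (mem_subgroupOf.2 hg))

/-- A two-element dividing an odd number. -/
theorem eq_one_of_two_odd {x : G} {a n : ℕ} (h2 : orderOf x ∣ 2 ^ a) (hn : Odd n)
    (hx : orderOf x ∣ n) : x = 1 :=
  orderOf_eq_one_iff.1 (Nat.eq_one_of_dvd_coprimes
    (Nat.Coprime.pow_left a ((Nat.coprime_two_left).2 hn)) h2 hx)

theorem isPGroup_orderOf {p : ℕ} [Finite G] [Fact p.Prime] {P : Subgroup G} (hP : IsPGroup p P) {x : G}
    (hx : x ∈ P) : ∃ a : ℕ, orderOf x ∣ p ^ a := by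
  obtain ⟨a, ha⟩ := hP ⟨x, hx⟩
  exact ⟨a, orderOf_dvd_of_pow_eq_one (by simpa using congrArg Subtype.val ha)⟩

/-- An involution among the powers of a nontrivial `2`-element. -/
theorem exists_involution_pow {s : G} {a : ℕ} (hs : orderOf s ∣ 2 ^ a) (hs1 : s ≠ 1) :
    ∃ k : ℕ, orderOf (s ^ k) = 2 := by
  obtain ⟨j, -, hj⟩ := (Nat.dvd_prime_pow Nat.prime_two).1 hs
  rcases j with _ | j
  · exact absurd (orderOf_eq_one_iff.1 (by simpa using hj)) hs1
  · refine ⟨2 ^ j, orderOf_eq_prime (p := 2) ?_ fun e => ?_⟩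
    · rw [← pow_mul, ← pow_succ, ← hj, pow_orderOf_eq_one]
    · have h1 := Nat.le_of_dvd (pow_pos two_pos j) (orderOf_dvd_of_pow_eq_one e)
      rw [hj, pow_succ] at h1
      have := pow_pos (two_pos : 0 < 2) j
      omega

/-- An element inverted by an element that commutes with it. -/
theorem eq_one_of_inverts_commute {u y : G} (hy : Odd (orderOf y)) (huy : u * y * u⁻¹ = y⁻¹)
    (hc : u * y = y * u) : y = 1 := by
  rw [hc, mul_inv_cancel_right] at huy
  have h2 : y ^ 2 = 1 := by rw [pow_two]; nth_rw 2 [huy]; exact mul_inv_cancel y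
  exact eq_one_of_two_odd (a := 1) (by simpa using orderOf_dvd_of_pow_eq_one h2) hy dvd_rfl

variable [Finite G] {T : Subgroup G} [T.Normal]

/-- A normal subgroup disjoint from `T` centralises it. -/
theorem eq_bot_of_inf (hCT : centralizer (T : Set G) = ⊥) {N : Subgroup G} (hN : N.Normal)
    (hd : N ⊓ T = ⊥) : N = ⊥ := by
  haveI := hN
  rw [eq_bot_iff, ← hCT]
  intro n hn
  rw [mem_centralizer_iff]
  exact fun x hx => (commute_of_normal_of_disjoint N T hN inferInstance (disjoint_iff.2 hd) n x hn hx).eq.symm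

theorem normal_cases (hsimple : IsSimpleGroup T) (hCT : centralizer (T : Set G) = ⊥) {N : Subgroup G}
    (hN : N.Normal) : N = ⊥ ∨ T ≤ N := by
  haveI := hN
  haveI := hsimple
  rcases (inferInstance : (N.subgroupOf T).Normal).eq_bot_or_eq_top with h | h
  · exact Or.inl (eq_bot_of_inf hCT hN (subgroupOf_eq_bot.1 h).eq_bot)
  · exact Or.inr (subgroupOf_eq_top.1 h)

/-- Some other conjugate of an involution of `T` lies in its Sylow subgroup. -/
theorem exists_other_conj (h : NormMax G) (hsimple : IsSimpleGroup T) (hCT : centralizer (T : Set G) = ⊥)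
    (S : Sylow 2 G) {t : G} (ht : orderOf t = 2) (htT : t ∈ T) (htS : t ∈ S) :
    ∃ g : G, g * t * g⁻¹ ∈ S ∧ g * t * g⁻¹ ≠ t := by
  by_contra hno
  push Not at hno
  obtain ⟨N, hN, hodd, hcomm⟩ := Cfsg.Agent.S0215.result S t ht htS hno
  have hNbot : N = ⊥ := by
    refine (normal_cases hsimple hCT hN).resolve_right fun hle => ?_
    have h1 : orderOf t ∣ Nat.card N := Subgroup.orderOf_dvd_natCard N (hle htT)
    rw [ht] at h1
    exact (Nat.not_even_iff_odd.2 hodd) (even_iff_two_dvd.2 h1)
  refine h.not_central ht fun g => ?_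
  have h1 : t * g * t⁻¹ * g⁻¹ = 1 := mem_bot.1 (hNbot ▸ hcomm g)
  rw [mul_inv_eq_one, mul_inv_eq_iff_eq_mul] at h1
  exact h1.symm

/-- The centralizer of an involution of `T` is self-normalizing. -/
theorem conj_eq_of_centralizer_eq (h : NormMax G) (hsimple : IsSimpleGroup T)
    (hCT : centralizer (T : Set G) = ⊥) {t : G} (ht : orderOf t = 2) (htT : t ∈ T) {g : G}
    (hg : centralizer ({g * t * g⁻¹} : Set G) = centralizer ({t} : Set G)) : g * t * g⁻¹ = t := by
  set M := centralizer ({t} : Set G)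
  have hM := h.isCoatom_centralizer ht
  have hgN : g ∈ normalizer (M : Set G) := by
    rw [Subgroup.mem_normalizer_iff]
    intro m
    have e : g * m * g⁻¹ ∈ centralizer ({g * t * g⁻¹} : Set G) ↔ m ∈ M := by
      simp only [M, mem_centralizer_singleton_iff]
      constructor
      · intro he
        have : g * (m * t) * g⁻¹ = g * (t * m) * g⁻¹ := by simpa [mul_assoc] using he
        exact mul_left_cancel (mul_right_cancel this)
      · intro he
        simp [mul_assoc, ← mul_assoc m t, he]
    rw [← e, hg]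
  have hne : normalizer (M : Set G) ≠ ⊤ := by
    intro htop
    rcases normal_cases hsimple hCT (normalizer_eq_top_iff.1 htop : M.Normal) with hb | hle
    · exact CfsgLib.Involutions.ne_one_of_involution ht
        (mem_bot.1 (hb ▸ (mem_centralizer_singleton_iff.2 rfl : t ∈ M)))
    · have : t ∈ centralizer (T : Set G) := mem_centralizer_iff.2 fun x hx =>
        mem_centralizer_singleton_iff.1 (hle hx)
      rw [hCT, mem_bot] at this
      exact CfsgLib.Involutions.ne_one_of_involution ht this
  rw [← coatom_eq hM hne le_normalizer] at hgN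
  exact mul_mem_centralizer_iff.1 hgN

end CfsgLib.MaxNorm
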