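import Mathlib
import Cfsg.Prelude.Def_Transfer
import Cfsg.Agent.S0508
import Cfsg.Agent.Lib.PCore.Basic
import Cfsg.Agent.Lib.MaxNorm.Almost

/-!
A 2-central involution of the socle whose centralizer is not a 2-group: the group is simple, its Sylow
2-subgroups are four groups and the centralizer is dihedral, so the group is `PSL₂(q)`.
-/

set_option autoImplicit false

namespace CfsgLib.MaxNorm

open Subgroup

variable {G : Type*} [Group G] [Finite G]

omit [Finite G] in
/-- An involution normalizing a subgroup of prime order centralizes or inverts it. -/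
theorem commute_or_inverts [Finite G] {q x : G} {r : ℕ} (hr : r.Prime) (hx : orderOf x = r) (hq : q * q = 1)
    (hn : q * x * q⁻¹ ∈ zpowers x) : q * x = x * q ∨ q * x * q⁻¹ = x⁻¹ := by
  have hqi : q⁻¹ = q := inv_eq_of_mul_eq_one_right hq
  set z := x * (q * x * q⁻¹) with hz
  have hzx : z ∈ zpowers x := mul_mem (mem_zpowers x) hn
  by_cases hz1 : z = 1
  · exact Or.inr (eq_inv_of_mul_eq_one_right (hz ▸ hz1))
  left
  have hqz : q * z * q⁻¹ = z := by
    have hc : Commute x (q * x * q⁻¹) := by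
      obtain ⟨i, hi⟩ := hn
      rw [← hi]
      exact (Commute.refl x).zpow_right i
    calc q * z * q⁻¹ = (q * x * q⁻¹) * (q * q * x * (q * q)⁻¹) := by rw [hz]; group
      _ = (q * x * q⁻¹) * x := by rw [hq]; group
      _ = z := hc.eq.symm
  have hgen : x ∈ zpowers z := by
    have h1 : orderOf z = r := by
      rcases (Nat.dvd_prime hr).1 (hx ▸ orderOf_dvd_of_mem_zpowers hzx) with e | e
      · exact absurd (orderOf_eq_one_iff.1 e) hz1
      · exact e
    rw [eq_of_le_of_card_ge (zpowers_le.2 hzx) (by rw [Nat.card_zpowers, Nat.card_zpowers, hx, h1])]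
    exact mem_zpowers x
  obtain ⟨i, hi⟩ := hgen
  rw [← hi]
  exact ((show Commute q z from mul_inv_eq_iff_eq_mul.1 hqz).zpow_right i).eq

omit [Finite G] in
/-- Two elements normalizing a cyclic subgroup have a commutator centralizing it. -/
theorem commutator_fixes {a b x : G} (ha : a * x * a⁻¹ ∈ zpowers x) (hb : b * x * b⁻¹ ∈ zpowers x) :
    (b * a)⁻¹ * (a * b) * x * ((b * a)⁻¹ * (a * b))⁻¹ = x := by
  obtain ⟨i, hi⟩ := ha
  obtain ⟨k, hk⟩ := hb
  dsimp only at hi hk
  have e1 : a * b * x * (a * b)⁻¹ = x ^ (i * k) := by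
    rw [zpow_mul, hi, conj_zpow, hk]; group
  have e2 : b * a * x * (b * a)⁻¹ = x ^ (i * k) := by
    rw [mul_comm i k, zpow_mul, hk, conj_zpow, hi]; group
  calc (b * a)⁻¹ * (a * b) * x * ((b * a)⁻¹ * (a * b))⁻¹
      = (b * a)⁻¹ * (a * b * x * (a * b)⁻¹) * (b * a) := by group
    _ = (b * a)⁻¹ * (b * a * x * (b * a)⁻¹) * (b * a) := by rw [e1, e2]
    _ = x := by group

/-- The outcome of the case of a centralizer that is not a 2-group. -/
structure KleinCase (G : Type*) [Group G] : Prop where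
  simple : IsSimpleGroup G
  psl : ∃ (F : Type) (_ : Field F) (_ : Fintype F), Odd (Fintype.card F) ∧
    Nonempty (G ≃* Matrix.ProjectiveSpecialLinearGroup (Fin 2) F)
  data : ∃ (t : G) (P : Sylow 2 G) (r : ℕ), orderOf t = 2 ∧ r.Prime ∧ r ≠ 2 ∧
    Nat.card (centralizer ({t} : Set G)) = 4 * r ∧ Nat.card (P : Subgroup G) = 4 ∧
    Nat.card (normalizer ((P : Subgroup G) : Set G)) ≤ 12

theorem kleinCase_of_not_two (h : NormMax G) {T : Subgroup G} [T.Normal] (hsimple : IsSimpleGroup T)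
    (hCT : centralizer (T : Set G) = ⊥) (S : Sylow 2 G) {t : G} (ht : orderOf t = 2) (htT : t ∈ T)
    (htS : t ∈ S) (htZ : ∀ s ∈ (S : Subgroup G), s * t = t * s)
    (hC : ¬ IsPGroup 2 (centralizer ({t} : Set G))) : KleinCase G := by
  classical
  haveI : Fact (Nat.Prime 2) := ⟨Nat.prime_two⟩
  set M := centralizer ({t} : Set G) with hMdef
  have hMc : IsCoatom M := h.isCoatom_centralizer ht
  obtain ⟨r, hr, hr2, x, hxM, hx⟩ : ∃ r : ℕ, r.Prime ∧ r ≠ 2 ∧ ∃ x ∈ M, orderOf x = r := by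
    by_contra hno
    push Not at hno
    refine hC (IsPGroup.of_card (n := (Nat.card M).primeFactorsList.length)
      (Nat.eq_prime_pow_of_unique_prime_dvd Nat.card_pos.ne' fun {d} hd hdd => ?_))
    by_contra hd2
    haveI := Fact.mk hd
    obtain ⟨⟨x, hx⟩, hxo⟩ := exists_prime_orderOf_dvd_card' d hdd
    rw [Subgroup.orderOf_mk] at hxo
    exact hno d hd hd2 x hx hxo
  have hx1 : x ≠ 1 := fun e => hr.one_lt.ne' (by rw [← hx, e, orderOf_one])
  have hxodd : Odd (orderOf x) := hx ▸ hr.odd_of_ne_two hr2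
  have hMN : ∀ z ∈ M, ∀ {p : ℕ}, p.Prime → p ≠ 2 → orderOf z = p → M = normalizer (zpowers z : Set G) :=
    fun z hz p hp hp2 hzo => h.centralizer_eq_norm ht (b := 1) hp hp2 (by rw [hzo, pow_one])
      (fun e => hp.one_lt.ne' (by rw [← hzo, e, orderOf_one])) (mem_centralizer_singleton_iff.1 hz).symm
  have hMx : M = normalizer (zpowers x : Set G) := hMN x hxM hr hr2 hx
  obtain ⟨g, hgS, hgne⟩ := exists_other_conj h hsimple hCT S ht htT htS
  set u := g * t * g⁻¹ with hu
  have huord : orderOf u = 2 := by rw [hu, CfsgLib.Involutions.orderOf_conj_eq, ht]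
  have huu := CfsgLib.Involutions.mul_self_eq_one huord
  have hut : u * t = t * u := htZ u hgS
  have huM : u ∈ M := mem_centralizer_singleton_iff.2 hut
  have hinv : ∀ z ∈ M, ∀ {p : ℕ}, p.Prime → p ≠ 2 → orderOf z = p → u * z * u⁻¹ = z⁻¹ := by
    intro z hz p hp hp2 hzo
    refine (commute_or_inverts hp hzo huu ?_).resolve_left fun hc => hgne ?_
    · exact mem_norm_zpowers.1 ((hMN z hz hp hp2 hzo) ▸ huM)
    · refine conj_eq_of_centralizer_eq h hsimple hCT ht htT ?_
      rw [h.centralizer_eq_norm huord (b := 1) hp hp2 (by rw [hzo, pow_one])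
        (fun e => hp.one_lt.ne' (by rw [← hzo, e, orderOf_one])) hc]
      exact (hMN z hz hp hp2 hzo).symm
  have hux : u * x * u⁻¹ = x⁻¹ := hinv x hxM hr hr2 hx
  have hodd : ∀ z ∈ M, ∀ {p : ℕ}, p.Prime → p ≠ 2 → orderOf z = p → z ∈ zpowers x := by
    intro z hz p hp hp2 hzo
    by_contra hnot
    have hbot : ∀ a, a ∈ zpowers z → a ∈ zpowers x → a = 1 := by
      intro a ha ha'
      by_contra ha1
      have h1 : orderOf a = p :=
        ((Nat.dvd_prime hp).1 (hzo ▸ orderOf_dvd_of_mem_zpowers ha)).resolve_left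
          fun e => ha1 (orderOf_eq_one_iff.1 e)
      have h2 : zpowers a = zpowers z :=
        eq_of_le_of_card_ge (zpowers_le.2 ha) (by rw [Nat.card_zpowers, Nat.card_zpowers, h1, hzo])
      exact hnot (zpowers_le.2 ha' (h2.symm ▸ mem_zpowers z : z ∈ zpowers a))
    have hc : z * x = x * z := by
      have h1 : z * x * z⁻¹ * x⁻¹ ∈ zpowers x :=
        mul_mem (mem_norm_zpowers.1 (hMx ▸ hz)) (inv_mem (mem_zpowers x))
      have h2 : z * x * z⁻¹ * x⁻¹ ∈ zpowers z := by
        rw [show z * x * z⁻¹ * x⁻¹ = z * (x * z⁻¹ * x⁻¹) by group]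
        refine mul_mem (mem_zpowers z) ?_
        have h3 := inv_mem (mem_norm_zpowers.1 ((hMN z hz hp hp2 hzo) ▸ hxM))
        simpa [mul_assoc] using h3
      have h3 := hbot _ h2 h1
      rw [mul_inv_eq_one, mul_inv_eq_iff_eq_mul] at h3
      exact h3
    exact hnot (h.mem_zpowers_of_inverted huord hux hr hr2 (b := 1) (by rw [hx, pow_one]) hx1 hc
      (hzo ▸ hp.odd_of_ne_two hp2) (hinv z hz hp hp2 hzo))
  set C := M ⊓ centralizer ({u} : Set G) with hCdef
  have hC2 : IsPGroup 2 C := by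
    refine IsPGroup.of_card (n := (Nat.card C).primeFactorsList.length)
      (Nat.eq_prime_pow_of_unique_prime_dvd Nat.card_pos.ne' fun {d} hd hdd => ?_)
    by_contra hd2
    haveI := Fact.mk hd
    obtain ⟨⟨z, hz⟩, hzo⟩ := exists_prime_orderOf_dvd_card' d hdd
    rw [Subgroup.orderOf_mk] at hzo
    have h1 := eq_one_of_inverts_commute (hzo ▸ hd.odd_of_ne_two hd2) (hinv z hz.1 hd hd2 hzo)
      (mem_centralizer_singleton_iff.1 hz.2).symm
    exact hd.one_lt.ne' (by rw [← hzo, h1, orderOf_one])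
  have hcover : ∀ m ∈ M, ∃ a ∈ zpowers x, ∃ c ∈ C, m = a * c := by
    intro m hm
    obtain ⟨j, hj⟩ := h.exists_commute huord hux hr hr2 (b := 1) (by rw [hx, pow_one]) hx1 (hMx ▸ hm)
    exact ⟨(x ^ j)⁻¹, inv_mem (zpow_mem (mem_zpowers x) j), x ^ j * m,
      mem_inf.2 ⟨M.mul_mem (zpow_mem hxM j) hm, mem_centralizer_singleton_iff.2 hj⟩, by group⟩
  have hxC : ∀ a ∈ zpowers x, a ∈ C → a = 1 := by
    intro a ha haC
    obtain ⟨b, hb⟩ := isPGroup_orderOf hC2 haC
    exact eq_one_of_two_odd hb hxodd (orderOf_dvd_of_mem_zpowers ha)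
  have hcardM : Nat.card M = r * Nat.card C := by
    have hb : Function.Bijective (fun p : zpowers x × C => (⟨(p.1 : G) * p.2,
        M.mul_mem (zpowers_le.2 hxM p.1.2) p.2.2.1⟩ : M)) := by
      refine ⟨fun p p' e => ?_, fun m => ?_⟩
      · have e' : (p.1 : G) * p.2 = p'.1 * p'.2 := congrArg Subtype.val e
        have h1 : (p'.1 : G)⁻¹ * p.1 = p'.2 * (p.2 : G)⁻¹ := by
          calc (p'.1 : G)⁻¹ * p.1 = (p'.1 : G)⁻¹ * ((p.1 : G) * p.2) * (p.2 : G)⁻¹ := by group
            _ = _ := by rw [e']; group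
        have h2 := hxC _ (mul_mem (inv_mem p'.1.2) p.1.2) (h1 ▸ mul_mem p'.2.2 (inv_mem p.2.2))
        refine Prod.ext (Subtype.ext (inv_mul_eq_one.1 h2).symm) (Subtype.ext ?_)
        rw [h1] at h2
        exact (mul_inv_eq_one.1 h2).symm
      · obtain ⟨a, ha, c, hc, e⟩ := hcover m m.2
        exact ⟨⟨⟨a, ha⟩, ⟨c, hc⟩⟩, Subtype.ext e.symm⟩
    rw [← Nat.card_congr (Equiv.ofBijective _ hb), Nat.card_prod, Nat.card_zpowers, hx]
  -- the Sylow subgroup centralising `t` and `u`
  obtain ⟨P, hP⟩ : ∃ P : Sylow 2 G, (P : Subgroup G) = C := by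
    obtain ⟨P, hP⟩ := hC2.exists_le_sylow
    refine ⟨P, (eq_of_le_of_card_ge hP ?_).symm⟩
    have hSM : (S : Subgroup G) ≤ M := fun s hs => mem_centralizer_singleton_iff.2 (htZ s hs)
    have h1 : Nat.card (S : Subgroup G) ∣ r * Nat.card C := hcardM ▸ Subgroup.card_dvd_of_le hSM
    have h2 : (Nat.card (S : Subgroup G)).Coprime r := by
      obtain ⟨n, hn⟩ := IsPGroup.iff_card.1 S.2
      rw [hn]
      exact Nat.Coprime.pow_left n ((Nat.coprime_primes Nat.prime_two hr).2 (fun e => hr2 e.symm))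
    have h3 := Nat.le_of_dvd Nat.card_pos (h2.dvd_of_dvd_mul_left h1)
    rw [P.card_eq_multiplicity, ← S.card_eq_multiplicity]
    exact h3
  have hPM : (P : Subgroup G) ≤ M := hP ▸ inf_le_left
  have hPt : ∀ z ∈ (P : Subgroup G), z * t = t * z := fun z hz => mem_centralizer_singleton_iff.1 (hPM hz)
  have hPu : ∀ z ∈ (P : Subgroup G), z * u = u * z := fun z hz =>
    mem_centralizer_singleton_iff.1 (mem_inf.1 (hP ▸ hz)).2
  have htP : t ∈ (P : Subgroup G) := hP ▸ mem_inf.2
    ⟨mem_centralizer_singleton_iff.2 rfl, mem_centralizer_singleton_iff.2 hut.symm⟩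
  have huP : u ∈ (P : Subgroup G) := hP ▸ mem_inf.2 ⟨huM, mem_centralizer_singleton_iff.2 rfl⟩
  set y := g * x * g⁻¹ with hy
  have hyo : orderOf y = r := by rw [hy, CfsgLib.Involutions.orderOf_conj_eq, hx]
  have hyodd : Odd (orderOf y) := hyo ▸ hr.odd_of_ne_two hr2
  have hy1 : y ≠ 1 := fun e => hr.one_lt.ne' (by rw [← hyo, e, orderOf_one])
  have hyu : u * y = y * u := by
    have hxt : x * t = t * x := mem_centralizer_singleton_iff.1 hxM
    calc u * y = g * (t * x) * g⁻¹ := by rw [hu, hy]; group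
      _ = g * (x * t) * g⁻¹ := by rw [hxt]
      _ = y * u := by rw [hu, hy]; group
  have hCu : centralizer ({u} : Set G) = normalizer (zpowers y : Set G) :=
    h.centralizer_eq_norm huord (b := 1) hr hr2 (by rw [hyo, pow_one]) hy1 hyu
  have hnx : ∀ z ∈ (P : Subgroup G), z * x * z⁻¹ ∈ zpowers x := fun z hz =>
    mem_norm_zpowers.1 (hMx ▸ hPM hz)
  have hny : ∀ z ∈ (P : Subgroup G), z * y * z⁻¹ ∈ zpowers y := fun z hz =>
    mem_norm_zpowers.1 (hCu ▸ mem_centralizer_singleton_iff.2 (hPu z hz))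
  have hQ : ∀ z ∈ (P : Subgroup G), z * x = x * z → z * y = y * z → z = 1 := by
    intro z hz hzx hzy
    by_contra hz1
    obtain ⟨a, ha⟩ := isPGroup_orderOf P.2 hz
    have e1 := h.norm_commute (b := 1) hzx Nat.prime_two hr ha (by rw [hx, pow_one]) (fun e => hr2 e.symm) hz1 hx1
    have e2 := h.norm_commute (b := 1) hzy Nat.prime_two hr ha (by rw [hyo, pow_one]) (fun e => hr2 e.symm) hz1 hy1
    exact hgne (conj_eq_of_centralizer_eq h hsimple hCT ht htT (by rw [← hu, hCu, ← e2, e1, ← hMx]))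
  have hab : ∀ a ∈ (P : Subgroup G), ∀ b ∈ (P : Subgroup G), a * b = b * a := by
    intro a ha b hb
    have h1 := hQ _ (mul_mem (inv_mem (mul_mem hb ha)) (mul_mem ha hb))
      (mul_inv_eq_iff_eq_mul.1 (commutator_fixes (hnx a ha) (hnx b hb)))
      (mul_inv_eq_iff_eq_mul.1 (commutator_fixes (hny a ha) (hny b hb)))
    exact (inv_mul_eq_one.1 h1).symm
  have hty : t * y * t⁻¹ = y⁻¹ :=
    (commute_or_inverts hr hyo (CfsgLib.Involutions.mul_self_eq_one ht) (hny t htP)).resolve_left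
      fun hc => CfsgLib.Involutions.ne_one_of_involution ht
        (hQ t htP (mem_centralizer_singleton_iff.1 hxM).symm hc)
  have hxt : t * x * t⁻¹ = x :=
    mul_inv_eq_iff_eq_mul.2 (mem_centralizer_singleton_iff.1 hxM).symm
  have huy : u * y * u⁻¹ = y := mul_inv_eq_iff_eq_mul.2 hyu
  have hthree : ∀ z ∈ (P : Subgroup G), z * z = 1 → z = 1 ∨ z = t ∨ z = u ∨ z = t * u := by
    intro z hz hzz
    have huy' : u * y⁻¹ * u⁻¹ = y⁻¹ := by
      calc u * y⁻¹ * u⁻¹ = (u * y * u⁻¹)⁻¹ := by group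
        _ = y⁻¹ := by rw [huy]
    have hci : ∀ {a b w : G}, a * w * a⁻¹ = w⁻¹ → b * w * b⁻¹ = w⁻¹ → (a * b) * w = w * (a * b) := by
      intro a b w ha hb
      refine mul_inv_eq_iff_eq_mul.1 ?_
      calc a * b * w * (a * b)⁻¹ = a * (b * w * b⁻¹) * a⁻¹ := by group
        _ = (a * w * a⁻¹)⁻¹ := by rw [hb]; group
        _ = w := by rw [ha, inv_inv]
    rcases commute_or_inverts hr hx hzz (hnx z hz) with hxs | hxs <;>
      rcases commute_or_inverts hr hyo hzz (hny z hz) with hys | hys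
    · exact Or.inl (hQ z hz hxs hys)
    · have h1 := hQ (z * t) (mul_mem hz htP)
        ((show Commute z x from hxs).mul_left (show Commute t x from mul_inv_eq_iff_eq_mul.1 hxt)).eq
        (hci hys hty)
      exact Or.inr (Or.inl ((mul_eq_one_iff_eq_inv.1 h1).trans
        (CfsgLib.Involutions.inv_eq_self_of_involution ht)))
    · have h1 := hQ (z * u) (mul_mem hz huP) (hci hxs hux)
        ((show Commute z y from hys).mul_left (show Commute u y from hyu)).eq
      exact Or.inr (Or.inr (Or.inl ((mul_eq_one_iff_eq_inv.1 h1).trans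
        (CfsgLib.Involutions.inv_eq_self_of_involution huord))))
    · have hc1 : t * u * x * (t * u)⁻¹ = x⁻¹ := by
        calc t * u * x * (t * u)⁻¹ = t * (u * x * u⁻¹) * t⁻¹ := by group
          _ = (t * x * t⁻¹)⁻¹ := by rw [hux]; group
          _ = x⁻¹ := by rw [hxt]
      have hc2 : t * u * y * (t * u)⁻¹ = y⁻¹ := by
        calc t * u * y * (t * u)⁻¹ = t * (u * y * u⁻¹) * t⁻¹ := by group
          _ = y⁻¹ := by rw [huy, hty]
      have h1 := hQ (z * (t * u)) (mul_mem hz (mul_mem htP huP)) (hci hxs hc1) (hci hys hc2)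
      refine Or.inr (Or.inr (Or.inr ((mul_eq_one_iff_eq_inv.1 h1).trans ?_)))
      rw [mul_inv_rev, CfsgLib.Involutions.inv_eq_self_of_involution ht,
        CfsgLib.Involutions.inv_eq_self_of_involution huord]
      exact hut
  -- the four group
  let D : Subgroup G :=
    { carrier := {z | z ∈ (P : Subgroup G) ∧ z * z = 1}
      one_mem' := ⟨one_mem _, one_mul _⟩
      mul_mem' := fun {a b} ⟨ha, ha2⟩ ⟨hb, hb2⟩ => ⟨(P : Subgroup G).mul_mem ha hb,
        by rw [mul_assoc, ← mul_assoc b, hab b hb a ha, mul_assoc a b b, hb2, mul_one, ha2]⟩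
      inv_mem' := fun {a} ⟨ha, ha2⟩ => by rw [inv_eq_of_mul_eq_one_right ha2]; exact ⟨ha, ha2⟩ }
  have htD : t ∈ D := ⟨htP, CfsgLib.Involutions.mul_self_eq_one ht⟩
  have huD : u ∈ D := ⟨huP, huu⟩
  have hDP : D ≤ (P : Subgroup G) := fun z hz => hz.1
  have hD := h D (fun e => CfsgLib.Involutions.ne_one_of_involution ht (mem_bot.1 (e ▸ htD : t ∈ (⊥ : Subgroup G))))
    (TwoPrime.of_isPGroup (P.2.to_le hDP))
  set N := normalizer (D : Set G) with hNdef
  have hPN : (P : Subgroup G) ≤ N := fun z hz => Subgroup.mem_normalizer_iff.2 fun a => by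
    constructor
    · intro ha
      rwa [hab z hz a (hDP ha), mul_inv_cancel_right]
    · intro ha
      have e := hab z hz _ (hDP ha)
      have : z * a * z⁻¹ = a := by
        have h1 : z * (z * a * z⁻¹) * z⁻¹ = z * a * z⁻¹ := by rw [e, mul_inv_cancel_right]
        exact mul_left_cancel (mul_right_cancel h1)
      rwa [this] at ha
  have hCD : ∀ z, z * t = t * z → z * u = u * z → z ∈ (P : Subgroup G) := fun z h1 h2 =>
    hP ▸ mem_inf.2 ⟨mem_centralizer_singleton_iff.2 h1, mem_centralizer_singleton_iff.2 h2⟩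
  have hxN : ∀ a ∈ zpowers x, a ∈ N → a = 1 := by
    intro a ha haN
    by_contra ha1
    have h1 : a * u * a⁻¹ ∈ D := (Subgroup.mem_normalizer_iff.1 haN u).1 huD
    obtain ⟨i, hi⟩ := ha
    dsimp only at hi
    have e : a * u * a⁻¹ = a * a * u := by
      rw [← hi, ← zpow_neg, mul_assoc (x ^ i), mul_zpow_of_inverts hux, neg_neg, ← mul_assoc]
    rw [e] at h1
    have h2 : a * a ∈ (P : Subgroup G) := ((P : Subgroup G).mul_mem_cancel_right huP).1 (hDP h1)
    obtain ⟨b, hb⟩ := isPGroup_orderOf P.2 h2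
    have h3 : a * a = 1 := eq_one_of_two_odd hb hxodd
      (orderOf_dvd_of_mem_zpowers (hi ▸ mul_mem (zpow_mem (mem_zpowers x) i) (zpow_mem (mem_zpowers x) i)))
    exact ha1 (eq_one_of_two_odd (a := 1)
      (by rw [pow_one]; exact orderOf_dvd_of_pow_eq_one (by rw [pow_two]; exact h3)) hxodd
      (orderOf_dvd_of_mem_zpowers (hi ▸ zpow_mem (mem_zpowers x) i)))
  have hfixt : ∀ n ∈ N, n * t * n⁻¹ = t → n ∈ (P : Subgroup G) := by
    intro n hn h1
    obtain ⟨a, ha, c, hc, e⟩ := hcover n (mem_centralizer_singleton_iff.2 (mul_inv_eq_iff_eq_mul.1 h1))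
    have hcN : c ∈ N := hPN (hP.symm ▸ hc)
    have haN : a ∈ N := by
      rw [show a = n * c⁻¹ by rw [e]; group]; exact mul_mem hn (inv_mem hcN)
    rw [e, hxN a ha haN, one_mul]
    exact hP.symm ▸ hc
  have ht1 := CfsgLib.Involutions.ne_one_of_involution ht
  have hu1 := CfsgLib.Involutions.ne_one_of_involution huord
  have htu1 : t * u ≠ 1 := fun e => hgne ((mul_eq_one_iff_inv_eq.1 e).symm.trans
    (CfsgLib.Involutions.inv_eq_self_of_involution ht))
  have himg : ∀ n ∈ N, ∀ z ∈ D, z ≠ 1 → n * z * n⁻¹ = t ∨ n * z * n⁻¹ = u ∨ n * z * n⁻¹ = t * u := by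
    intro n hn z hz hz1
    have h1 := (Subgroup.mem_normalizer_iff.1 hn z).1 hz
    exact (hthree _ (hDP h1) h1.2).resolve_left fun e => hz1 (conj_eq_one_iff.1 e)
  -- an element permuting the three involutions cyclically
  obtain ⟨p, hp, hp2, h0, h0N, h0o⟩ : ∃ p : ℕ, p.Prime ∧ p ≠ 2 ∧ ∃ h0 ∈ N, orderOf h0 = p := by
    by_contra hno
    push Not at hno
    have hN2 : IsPGroup 2 N := by
      refine IsPGroup.of_card (n := (Nat.card N).primeFactorsList.length)
        (Nat.eq_prime_pow_of_unique_prime_dvd Nat.card_pos.ne' fun {d} hd hdd => ?_)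
      by_contra hd2
      haveI := Fact.mk hd
      obtain ⟨⟨z, hz⟩, hzo⟩ := exists_prime_orderOf_dvd_card' d hdd
      rw [Subgroup.orderOf_mk] at hzo
      exact hno d hd hd2 z hz hzo
    rw [P.is_maximal' hN2 hPN] at hD
    have hPMeq := coatom_eq hD hMc.1 hPM
    exact hx1 (hxC x (mem_zpowers x) (hP ▸ hPMeq.symm ▸ hxM))
  have hodd0 : Odd (orderOf h0) := h0o ▸ hp.odd_of_ne_two hp2
  have hne0 : h0 * t * h0⁻¹ ≠ t := fun e => by
    obtain ⟨b, hb⟩ := isPGroup_orderOf P.2 (hfixt h0 h0N e)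
    exact hp.one_lt.ne' (by rw [← h0o, eq_one_of_two_odd hb hodd0 dvd_rfl, orderOf_one])
  obtain ⟨k, hkN, hkt, hku⟩ : ∃ k ∈ N, k * t * k⁻¹ = u ∧ k * u * k⁻¹ = t * u := by
    have hsq : ∀ q ∈ D, q ≠ 1 → h0 * q * h0⁻¹ = q → q = t := by
      intro q hqD hq1 e
      by_contra hne
      -- `h0` fixes `q`, so its square fixes `t`
      have h2 : h0 ^ 2 * t * (h0 ^ 2)⁻¹ = t := by
        have hsplit : h0 ^ 2 * t * (h0 ^ 2)⁻¹ = h0 * (h0 * t * h0⁻¹) * h0⁻¹ := by rw [pow_two]; group
        rw [hsplit]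
        have hw1 : h0 * t * h0⁻¹ ≠ q := fun e' => hne (mul_left_cancel (mul_right_cancel (e'.trans e.symm))).symm
        have hwD : h0 * t * h0⁻¹ ∈ D := (Subgroup.mem_normalizer_iff.1 h0N t).1 htD
        have hwne : h0 * t * h0⁻¹ ≠ 1 := fun e' => ht1 (conj_eq_one_iff.1 e')
        have h2a : h0 * (h0 * t * h0⁻¹) * h0⁻¹ ≠ h0 * t * h0⁻¹ := fun e' =>
          hne0 (mul_left_cancel (mul_right_cancel e'))
        have h2b : h0 * (h0 * t * h0⁻¹) * h0⁻¹ ≠ q := fun e' =>
          hw1 (mul_left_cancel (mul_right_cancel (e'.trans e.symm)))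
        have hq3 := (hthree q (hDP hqD) hqD.2).resolve_left hq1
        rcases himg h0 h0N t htD ht1 with e1 | e1 | e1 <;>
          rcases himg h0 h0N _ hwD hwne with e2 | e2 | e2 <;>
          rcases hq3 with e3 | e3 | e3
        all_goals first
          | exact e2
          | exact absurd e1 hne0
          | exact absurd e3 hne
          | exact absurd (e1.trans e3.symm) hw1
          | exact absurd (e2.trans e1.symm) h2a
          | exact absurd (e2.trans e3.symm) h2b
      obtain ⟨b, hb⟩ := isPGroup_orderOf P.2 (hfixt _ (pow_mem h0N 2) h2)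
      have h3 : h0 ^ 2 = 1 := eq_one_of_two_odd hb hodd0 (orderOf_pow_dvd 2)
      exact hp2 ((Nat.prime_dvd_prime_iff_eq hp Nat.prime_two).1 (h0o ▸ orderOf_dvd_of_pow_eq_one h3))
    rcases himg h0 h0N t htD ht1 with e | e | e
    · exact absurd e hne0
    · refine ⟨h0, h0N, e, ?_⟩
      rcases himg h0 h0N u huD hu1 with e' | e' | e'
      · exfalso
        have hq : h0 * (t * u) * h0⁻¹ = t * u := by rw [← conj_mul, e, e', hut]
        exact hu1 (mul_eq_left.1 (hsq _ (D.mul_mem htD huD) htu1 hq))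
      · exact absurd (hsq u huD hu1 e') hgne
      · exact e'
    · have e' : h0 * u * h0⁻¹ = t := by
        rcases himg h0 h0N u huD hu1 with e' | e' | e'
        · exact e'
        · exact absurd (hsq u huD hu1 e') hgne
        · exact absurd (mul_left_cancel (mul_right_cancel (e'.trans e.symm))) hgne
      refine ⟨h0⁻¹, inv_mem h0N, ?_, ?_⟩
      · rw [← e', inv_inv]; group
      · have e'' : h0 * (t * u) * h0⁻¹ = u := by
          rw [← conj_mul, e, e', mul_assoc, hut, ← mul_assoc, CfsgLib.Involutions.mul_self_eq_one ht,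
            one_mul]
        rw [inv_inv]
        calc h0⁻¹ * u * h0 = h0⁻¹ * (h0 * (t * u) * h0⁻¹) * h0 := by rw [e'']
          _ = t * u := by group
  have hktu : k * (t * u) * k⁻¹ = t := by
    rw [← conj_mul, hkt, hku, ← mul_assoc, hut, mul_assoc, huu, mul_one]
  have hkP : ∀ a ∈ (P : Subgroup G), k * a * k⁻¹ ∈ (P : Subgroup G) := by
    intro a ha
    refine hCD _ ?_ ?_
    · refine mul_inv_eq_iff_eq_mul.1 ?_
      calc k * a * k⁻¹ * t * (k * a * k⁻¹)⁻¹ = k * (a * (k⁻¹ * t * k) * a⁻¹) * k⁻¹ := by group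
        _ = k * (a * (t * u) * a⁻¹) * k⁻¹ := by
          rw [show k⁻¹ * t * k = t * u from
            calc k⁻¹ * t * k = k⁻¹ * (k * (t * u) * k⁻¹) * k := by rw [hktu]
              _ = t * u := by group]
        _ = k * (t * u) * k⁻¹ := by rw [hab a ha _ (mul_mem htP huP), mul_inv_cancel_right]
        _ = t := hktu
    · refine mul_inv_eq_iff_eq_mul.1 ?_
      calc k * a * k⁻¹ * u * (k * a * k⁻¹)⁻¹ = k * (a * (k⁻¹ * u * k) * a⁻¹) * k⁻¹ := by group
        _ = k * (a * t * a⁻¹) * k⁻¹ := by rw [show k⁻¹ * u * k = t by rw [← hkt]; group]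
        _ = k * t * k⁻¹ := by rw [hab a ha _ htP, mul_inv_cancel_right]
        _ = u := hkt
  -- squares in `P` are trivial
  set z := k * y * k⁻¹ with hz
  have hzo : orderOf z = r := by rw [hz, CfsgLib.Involutions.orderOf_conj_eq, hyo]
  have hz1 : z ≠ 1 := fun e => hr.one_lt.ne' (by rw [← hzo, e, orderOf_one])
  have htuo : orderOf (t * u) = 2 := by rw [← hku, CfsgLib.Involutions.orderOf_conj_eq, huord]
  have hztu : (t * u) * z = z * (t * u) := by
    rw [← hku, hz]
    calc k * u * k⁻¹ * (k * y * k⁻¹) = k * (u * y) * k⁻¹ := by group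
      _ = k * (y * u) * k⁻¹ := by rw [hyu]
      _ = _ := by group
  have hsqc : ∀ s ∈ (P : Subgroup G), ∀ q w : G, orderOf q = 2 → orderOf w = r → w ≠ 1 → q * w = w * q →
      s * s = q → s * w = w * s := by
    intro s hs q w hq hw hw1 hqw hss
    obtain ⟨a, ha⟩ := isPGroup_orderOf P.2 hs
    have e1 := h.norm_two_element ha hq (k := 2) (by rw [pow_two, hss])
    have e2 := h.centralizer_eq_norm hq (b := 1) hr hr2 (by rw [hw, pow_one]) hw1 hqw
    have hs' : s ∈ centralizer ({q} : Set G) := mem_centralizer_singleton_iff.2 (by rw [← hss, mul_assoc])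
    have hw' : w ∈ normalizer (zpowers s : Set G) := e1 ▸ mem_centralizer_singleton_iff.2 hqw.symm
    have h1 : s * w * s⁻¹ * w⁻¹ ∈ zpowers w :=
      mul_mem (mem_norm_zpowers.1 (e2 ▸ hs')) (inv_mem (mem_zpowers w))
    have h2 : s * w * s⁻¹ * w⁻¹ ∈ zpowers s := by
      rw [show s * w * s⁻¹ * w⁻¹ = s * (w * s * w⁻¹)⁻¹ by group]
      exact mul_mem (mem_zpowers s) (inv_mem (mem_norm_zpowers.1 hw'))
    obtain ⟨b, hb⟩ := isPGroup_orderOf (P.2.to_le (zpowers_le.2 hs)) h2
    have h3 := eq_one_of_two_odd hb (hw ▸ hr.odd_of_ne_two hr2) (orderOf_dvd_of_mem_zpowers h1)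
    rw [mul_inv_eq_one, mul_inv_eq_iff_eq_mul] at h3
    exact h3
  have hexp : ∀ s ∈ (P : Subgroup G), s * s = 1 := by
    by_contra hno
    push Not at hno
    obtain ⟨s, hs, hs1⟩ := hno
    obtain ⟨a, ha⟩ := isPGroup_orderOf P.2 hs
    obtain ⟨j, hj⟩ := exists_involution_pow (a := a) ((orderOf_dvd_of_pow_eq_one (by
      rw [← pow_two, ← pow_mul, mul_comm, pow_mul, orderOf_dvd_iff_pow_eq_one.1 ha, one_pow]))) hs1
    obtain ⟨w, hw, hwq⟩ : ∃ w ∈ (P : Subgroup G), w * w = t := by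
      have h1 : s ^ j ∈ (P : Subgroup G) := pow_mem hs j
      have hs2 : s ^ j * s ^ j = (s * s) ^ j := by rw [(Commute.refl s).mul_pow]
      rcases hthree _ (pow_mem (mul_mem hs hs) j) (CfsgLib.Involutions.mul_self_eq_one hj) with e | e | e | e
      · exact absurd e (CfsgLib.Involutions.ne_one_of_involution hj)
      · exact ⟨s ^ j, h1, hs2.trans e⟩
      · refine ⟨k * (k * s ^ j * k⁻¹) * k⁻¹, hkP _ (hkP _ h1), ?_⟩
        rw [conj_mul, conj_mul, hs2, e, hku, hktu]
      · refine ⟨k * s ^ j * k⁻¹, hkP _ h1, ?_⟩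
        rw [conj_mul, hs2, e, hktu]
    set w2 := k * w * k⁻¹
    have hw2 : w2 ∈ (P : Subgroup G) := hkP w hw
    have hw22 : w2 * w2 = u := by rw [conj_mul, hwq, hkt]
    have e3 : (w * w2) * (w * w2) = t * u := by
      rw [mul_assoc, ← mul_assoc w2, hab w2 hw2 w hw, mul_assoc, hw22, ← mul_assoc, hwq]
    have e4 : (w * w2⁻¹) * (w * w2⁻¹) = t * u := by
      have hi := inv_mem hw2
      rw [mul_assoc, ← mul_assoc w2⁻¹, hab _ hi w hw, mul_assoc, ← mul_assoc, hwq, ← mul_inv_rev, hw22,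
        CfsgLib.Involutions.inv_eq_self_of_involution huord]
    have c3 : Commute (w * w2) z := hsqc _ (mul_mem hw hw2) _ z htuo hzo hz1 hztu e3
    have c4 : Commute (w * w2⁻¹) z := hsqc _ (mul_mem hw (inv_mem hw2)) _ z htuo hzo hz1 hztu e4
    have c5 : Commute u z := by
      have h5 := c4.inv_left.mul_left c3
      rwa [mul_inv_rev, inv_inv, mul_assoc, inv_mul_cancel_left, hw22] at h5
    have e := h.centralizer_eq_norm huord (b := 1) hr hr2 (by rw [hzo, pow_one]) hz1 c5.eq
    have e' := h.centralizer_eq_norm htuo (b := 1) hr hr2 (by rw [hzo, pow_one]) hz1 hztu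
    have huT : u ∈ T := (inferInstance : T.Normal).conj_mem t htT g
    have := conj_eq_of_centralizer_eq h hsimple hCT huord huT (g := k) (by rw [hku, e', ← e])
    rw [hku] at this
    exact ht1 (mul_eq_right.1 this)
  have hcard4 : Nat.card (P : Subgroup G) = 4 := by
    haveI := Fintype.ofFinite G
    have h4 : ({1, t, u, t * u} : Finset G).card = 4 := by
      rw [Finset.card_insert_of_notMem, Finset.card_insert_of_notMem, Finset.card_insert_of_notMem,
        Finset.card_singleton]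
      · simp only [Finset.mem_singleton]
        exact fun e => ht1 (mul_eq_right.1 e.symm)
      · simp only [Finset.mem_insert, Finset.mem_singleton, not_or]
        exact ⟨fun e => hgne e.symm, fun e => hu1 (mul_eq_left.1 e.symm)⟩
      · simp only [Finset.mem_insert, Finset.mem_singleton, not_or]
        exact ⟨ht1.symm, hu1.symm, htu1.symm⟩
    rw [← h4, ← Set.ncard_coe_finset]
    show Nat.card ((P : Subgroup G) : Set G) = _
    rw [Nat.card_coe_set_eq]
    congr 1
    ext a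
    rw [Finset.mem_coe, SetLike.mem_coe]
    simp only [Finset.mem_insert, Finset.mem_singleton]
    refine ⟨fun ha => hthree a ha (hexp a ha), ?_⟩
    rintro (rfl | rfl | rfl | rfl)
    exacts [one_mem _, htP, huP, mul_mem htP huP]
  have huT : u ∈ T := (inferInstance : T.Normal).conj_mem t htT g
  have hPT : (P : Subgroup G) ≤ T := by
    intro a ha
    rcases hthree a ha (hexp a ha) with rfl | rfl | rfl | rfl
    exacts [one_mem _, htT, huT, mul_mem htT huT]
  have hxT : x ∈ T := by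
    have h1 : u * (x * u⁻¹ * x⁻¹) ∈ T := mul_mem huT ((inferInstance : T.Normal).conj_mem _ (inv_mem huT) x)
    rw [← mul_assoc, ← mul_assoc, hux] at h1
    have h2 : x = ((x⁻¹ * x⁻¹)⁻¹) ^ ((orderOf x + 1) / 2) := by
      obtain ⟨c, hc⟩ := hxodd
      rw [mul_inv_rev, inv_inv, ← pow_two, ← pow_mul,
        show 2 * ((orderOf x + 1) / 2) = orderOf x + 1 by omega, pow_succ, pow_orderOf_eq_one, one_mul]
    rw [h2]
    exact pow_mem (inv_mem h1) _
  have hMT : M ≤ T := fun m hm => by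
    obtain ⟨a, ha, c, hc, e⟩ := hcover m hm
    rw [e]
    exact mul_mem (zpowers_le.2 hxT ha) (hPT (hP.symm ▸ hc))
  have hTtop : T = ⊤ := by
    rcases hMc.le_iff.1 hMT with e | e
    · exact e
    exfalso
    refine ht1 (mem_bot.1 (hCT ▸ (mem_centralizer_iff.2 fun a ha => ?_ : t ∈ centralizer (T : Set G))))
    exact mem_centralizer_singleton_iff.1 (e.le ha : a ∈ M)
  haveI hsimp : IsSimpleGroup G := by
    haveI := hsimple
    subst hTtop
    exact Subgroup.topEquiv.symm.isSimpleGroup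
  have hcardC : Nat.card M = 4 * r := by rw [hcardM, ← hP, hcard4, mul_comm]
  have hDeq : D = (P : Subgroup G) := le_antisymm hDP fun a ha => ⟨ha, hexp a ha⟩
  have hN12 : Nat.card (normalizer ((P : Subgroup G) : Set G)) ≤ 12 := by
    rw [← hDeq, ← hNdef]
    have hex : ∀ n : N, ∃ i : Fin 3, (k ^ (i : ℕ))⁻¹ * (n : G) ∈ (P : Subgroup G) := by
      intro n
      rcases himg n n.2 t htD ht1 with e | e | e
      · exact ⟨0, by simpa using hfixt n n.2 e⟩
      · refine ⟨1, hfixt _ (mul_mem (inv_mem (pow_mem hkN _)) n.2) ?_⟩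
        simp only [Fin.val_one, pow_one]
        calc k⁻¹ * n * t * (k⁻¹ * n)⁻¹ = k⁻¹ * ((n : G) * t * (n : G)⁻¹) * k := by group
          _ = k⁻¹ * (k * t * k⁻¹) * k := by rw [e, hkt]
          _ = t := by group
      · refine ⟨2, hfixt _ (mul_mem (inv_mem (pow_mem hkN _)) n.2) ?_⟩
        simp only [Fin.val_two]
        calc (k ^ 2)⁻¹ * n * t * ((k ^ 2)⁻¹ * n)⁻¹ = (k ^ 2)⁻¹ * ((n : G) * t * (n : G)⁻¹) * k ^ 2 := by group
          _ = (k ^ 2)⁻¹ * (k * (k * t * k⁻¹) * k⁻¹) * k ^ 2 := by rw [e, hkt, hku]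
          _ = t := by group
    choose f hf using hex
    have hinj : Function.Injective (fun n : N =>
        ((f n, ⟨_, hf n⟩) : Fin 3 × (P : Subgroup G))) := fun n n' e => by
      simp only [Prod.mk.injEq, Subtype.mk.injEq] at e
      rw [e.1] at e
      exact Subtype.ext (mul_left_cancel e.2)
    have h12 := Nat.card_le_card_of_injective _ hinj
    rwa [Nat.card_prod, Nat.card_fin, hcard4] at h12
  refine ⟨hsimp, ?_, ⟨t, P, r, ht, hr, hr2, hcardC, hcard4, hN12⟩⟩
  -- Brauer–Suzuki–Wall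
  set O := (Cfsg.oddCore M).map M.subtype with hO
  have hOx : O = zpowers x := by
    have hxO : zpowers x ≤ O := by
      intro a ha
      refine ⟨⟨a, zpowers_le.2 hxM ha⟩, CfsgLib.PCore.le_pPrimeCore_of_not_dvd
        (N := (zpowers x).subgroupOf M) ⟨fun z hz m => mem_subgroupOf.2 ?_⟩ ?_ (mem_subgroupOf.2 ha), rfl⟩
      · exact (Subgroup.mem_normalizer_iff.1 (hMx.le m.2) z).1 (mem_subgroupOf.1 hz)
      · rw [Nat.card_congr (subgroupOfEquivOfLe (zpowers_le.2 hxM)).toEquiv, Nat.card_zpowers, hx]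
        exact fun e => hr2 ((Nat.prime_dvd_prime_iff_eq Nat.prime_two hr).1 e).symm
    refine (eq_of_le_of_card_ge hxO ?_).symm
    have h1 : Nat.card O ∣ 4 * r := by
      rw [← hcardC]; exact Subgroup.card_dvd_of_le (map_subtype_le _)
    have h2 : (Nat.card O).Coprime 4 := by
      rw [hO, card_map_of_injective M.subtype_injective]
      exact (CfsgLib.PCore.coprime_of_not_dvd_card CfsgLib.PCore.not_dvd_card_pPrimeCore).pow_right 2
    rw [Nat.card_zpowers, hx]
    exact Nat.le_of_dvd hr.pos (h2.dvd_of_dvd_mul_left h1)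
  have hSe : Nonempty ((P : Subgroup G) ≃* DihedralGroup 2) := by
    haveI : IsKleinFour (P : Subgroup G) := by
      refine ⟨hcard4, (Nat.dvd_prime Nat.prime_two).1 (Monoid.exponent_dvd_of_forall_pow_eq_one fun a => ?_)
        |>.resolve_left fun e1 => ?_⟩
      · exact Subtype.ext (by rw [SubgroupClass.coe_pow, pow_two]; exact hexp a a.2)
      · have := (Monoid.exp_eq_one_iff.1 e1).allEq ⟨t, htP⟩ 1
        exact ht1 (congrArg Subtype.val this)
    exact IsKleinFour.nonempty_mulEquiv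
  have hcent : ∀ a ∈ (P : Subgroup G), a ∈ centralizer (O : Set G) ↔ a = 1 ∨ a = t := by
    intro a ha
    rw [hOx, mem_centralizer_iff]
    constructor
    · intro hc
      have hcx : a * x = x * a := (hc x (mem_zpowers x)).symm
      rcases hthree a ha (hexp a ha) with e | e | e | e
      · exact Or.inl e
      · exact Or.inr e
      · exact absurd (eq_one_of_inverts_commute hxodd hux (e ▸ hcx)) hx1
      · exfalso
        refine hx1 (eq_one_of_inverts_commute hxodd (u := t * u) ?_ (e ▸ hcx))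
        calc t * u * x * (t * u)⁻¹ = t * (u * x * u⁻¹) * t⁻¹ := by group
          _ = (t * x * t⁻¹)⁻¹ := by rw [hux]; group
          _ = x⁻¹ := by rw [hxt]
    · rintro (rfl | rfl) b hb
      · simp
      · exact mem_centralizer_singleton_iff.1 (zpowers_le.2 hxM hb)
  refine Cfsg.Agent.S0508.result P 2 le_rfl hSe t ht htP hPt O hO (fun _ => ?_) ?_ ?_
  · have e : (P : Subgroup G) ⊓ centralizer (O : Set G) = zpowers t := by
      refine le_antisymm (fun a ha => ?_) (zpowers_le.2 ⟨htP, (hcent t htP).2 (Or.inr rfl)⟩)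
      rcases (hcent a ha.1).1 ha.2 with rfl | rfl
      · exact one_mem _
      · exact mem_zpowers _
    rw [e]
    refine ⟨inferInstance, ?_⟩
    have h3 : (zpowers t).relIndex (P : Subgroup G) * Nat.card (zpowers t) = Nat.card (P : Subgroup G) := by
      rw [relIndex, ← Nat.card_congr (subgroupOfEquivOfLe (zpowers_le.2 htP)).toEquiv]
      exact index_mul_card _
    rw [Nat.card_zpowers, ht, hcard4] at h3
    omega
  · intro a ha hna b hb
    rw [hOx] at hb
    obtain ⟨i, rfl⟩ := hb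
    dsimp only
    have hax : a * x * a⁻¹ = x⁻¹ :=
      (commute_or_inverts hr hx (hexp a ha) (hnx a ha)).resolve_left fun hc => hna (by
        rw [hOx, mem_centralizer_iff]
        rintro b ⟨l, rfl⟩
        exact ((show Commute a x from hc).zpow_right l).eq.symm)
    rw [conj_zpow_of_inverts hax, zpow_neg]
  · intro Y hY hY1
    rw [hOx] at hY
    have hYx : Y = zpowers x := by
      refine eq_of_le_of_card_ge hY ?_
      have h1 := Subgroup.card_dvd_of_le hY
      rw [Nat.card_zpowers, hx] at h1 ⊢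
      rcases (Nat.dvd_prime hr).1 h1 with e | e
      · exact absurd (Subgroup.card_eq_one.1 e) hY1
      · exact e.ge
    rw [hYx, ← hMx]

end CfsgLib.MaxNorm
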