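import Mathlib
import Cfsg.Prelude.Def_Transfer
import Cfsg.Agent.S0199
import Cfsg.Agent.Lib.PCore.Basic
import Cfsg.Agent.Lib.MaxNorm.Almost

/-!
If a 2-central involution has a 2-group centralizer, some maximal 2-local subgroup is a four group
extended by an element of order 3.
-/

set_option autoImplicit false

namespace CfsgLib.MaxNorm

open Subgroup

variable {G : Type*} [Group G] [Finite G]

/-- A 2-element commuting with an element of odd order, all in a group with 2-group involution centralizers. -/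
theorem eq_one_of_commute_odd {y q : G} {a : ℕ} (hq : orderOf q ∣ 2 ^ a) (hq1 : q ≠ 1)
    (hy : Odd (orderOf y)) (hc : q * y = y * q)
    (h2 : ∀ i : G, orderOf i = 2 → i * y = y * i → IsPGroup 2 (centralizer ({i} : Set G))) : y = 1 := by
  obtain ⟨k, hk⟩ := exists_involution_pow hq hq1
  have hc' : q ^ k * y = y * q ^ k := Commute.pow_left (show Commute q y from hc) k
  haveI : Fact (Nat.Prime 2) := ⟨Nat.prime_two⟩
  obtain ⟨b, hb⟩ := isPGroup_orderOf (h2 _ hk hc') (mem_centralizer_singleton_iff.2 hc'.symm)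
  exact eq_one_of_two_odd hb hy dvd_rfl

/-- The output of the local analysis: a four group `D` with a maximal normalizer. -/
structure FourLocal (S : Sylow 2 G) (t : G) where
  /-- the four group -/
  D : Subgroup G
  /-- the element of order three -/
  y : G
  /-- the involution inverting it -/
  v : G
  leS : D ≤ S
  mem : t ∈ D
  card : Nat.card D = 4
  sq : ∀ z ∈ D, z * z = 1
  comm : ∀ z ∈ D, ∀ z' ∈ D, z * z' = z' * z
  coatom : IsCoatom (normalizer (D : Set G))
  cent : centralizer (D : Set G) ≤ D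
  ymem : y ∈ normalizer (D : Set G)
  vmem : v ∈ normalizer (D : Set G)
  vord : orderOf v = 2
  yord : orderOf y = 3
  inv : v * y * v⁻¹ = y⁻¹
  fpf : ∀ z ∈ D, y * z * y⁻¹ = z → z = 1

/-- The local analysis. -/
theorem exists_fourLocal (h : NormMax G) {T : Subgroup G} [T.Normal] (hsimple : IsSimpleGroup T)
    (hCT : centralizer (T : Set G) = ⊥) (S : Sylow 2 G) {t : G} (ht : orderOf t = 2) (htT : t ∈ T)
    (htS : t ∈ S) (htZ : ∀ s ∈ (S : Subgroup G), s * t = t * s)
    (hC : IsPGroup 2 (centralizer ({t} : Set G))) : Nonempty (FourLocal S t) := by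
  classical
  haveI : Fact (Nat.Prime 2) := ⟨Nat.prime_two⟩
  have hSC : (S : Subgroup G) = centralizer ({t} : Set G) :=
    (S.is_maximal' hC fun s hs => mem_centralizer_singleton_iff.2 (htZ s hs)).symm
  have hScoatom : IsCoatom (S : Subgroup G) := hSC ▸ h.isCoatom_centralizer ht
  have hSne : (S : Subgroup G) ≠ ⊥ := fun e =>
    CfsgLib.Involutions.ne_one_of_involution ht (mem_bot.1 (e ▸ htS : t ∈ (⊥ : Subgroup G)))
  have hNS : normalizer ((S : Subgroup G) : Set G) = S :=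
    (coatom_eq hScoatom (h.norm_ne_top hSne (TwoPrime.of_isPGroup S.2)) le_normalizer).symm
  -- a second Sylow subgroup through `t`
  obtain ⟨g, hgS, hgne⟩ := exists_other_conj h hsimple hCT S ht htT htS
  haveI : Nonempty {B : Sylow 2 G // B ≠ S ∧ t ∈ B} := by
    refine ⟨⟨g • S, fun e => hgne ?_, ?_⟩⟩
    · have hg : g ∈ normalizer ((S : Subgroup G) : Set G) := Sylow.smul_eq_iff_mem_normalizer.1 e
      rw [hNS, hSC, mem_centralizer_singleton_iff] at hg
      rw [hg, mul_inv_cancel_right]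
    · show t ∈ ((g • S : Sylow 2 G) : Subgroup G)
      rw [Sylow.coe_subgroup_smul, mem_pointwise_smul_iff_inv_smul_mem]
      show (MulAut.conj g)⁻¹ t ∈ (S : Subgroup G)
      rw [hSC, MulAut.inv_def, MulAut.conj_symm_apply, mem_centralizer_singleton_iff]
      have hgS' : g * t * g⁻¹ ∈ (S : Subgroup G) := hgS
      rw [hSC, mem_centralizer_singleton_iff] at hgS'
      calc g⁻¹ * t * g * t = g⁻¹ * (t * (g * t * g⁻¹)) * g := by group
        _ = g⁻¹ * ((g * t * g⁻¹) * t) * g := by rw [hgS']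
        _ = t * (g⁻¹ * t * g) := by group
  obtain ⟨⟨B, hBne, htB⟩, hmax⟩ := Finite.exists_max
    (fun B : {B : Sylow 2 G // B ≠ S ∧ t ∈ B} => Nat.card ↥((S : Subgroup G) ⊓ (B.1 : Subgroup G)))
  set D0 := (S : Subgroup G) ⊓ (B : Subgroup G) with hD0
  have htD0 : t ∈ D0 := ⟨htS, htB⟩
  have hD02 : IsPGroup 2 D0 := S.2.to_le inf_le_left
  have hD0ne : D0 ≠ ⊥ := fun e =>
    CfsgLib.Involutions.ne_one_of_involution ht (mem_bot.1 (e ▸ htD0 : t ∈ (⊥ : Subgroup G)))
  have hM := h D0 hD0ne (TwoPrime.of_isPGroup hD02)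
  set M := normalizer (D0 : Set G) with hMdef
  have hD0S : D0 < S := lt_of_le_of_ne inf_le_left fun e => hBne (Sylow.ext
    (S.is_maximal' B.2 (e.ge.trans inf_le_right)))
  have hD0B : D0 < B := lt_of_le_of_ne inf_le_right fun e => hBne (Sylow.ext
    (B.is_maximal' S.2 (e.ge.trans inf_le_left)).symm)
  obtain ⟨x1, hx1S, hx1N, hx1D⟩ := exists_normalizing S.2 hD0S
  obtain ⟨x2, hx2B, hx2N, hx2D⟩ := exists_normalizing B.2 hD0B
  -- a 2-subgroup containing `D0` and `x1` lies in `S`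
  have hkey : ∀ Q : Subgroup G, IsPGroup 2 Q → D0 ≤ Q → x1 ∈ Q → Q ≤ S := by
    intro Q hQ hDQ hxQ
    obtain ⟨S0, hS0⟩ := hQ.exists_le_sylow
    rcases eq_or_ne S0 S with rfl | hne
    · exact hS0
    exfalso
    have hlt : D0 < (S : Subgroup G) ⊓ (S0 : Subgroup G) :=
      SetLike.lt_iff_le_and_exists.2 ⟨le_inf inf_le_left (hDQ.trans hS0), x1,
        mem_inf.2 ⟨hx1S, hS0 hxQ⟩, hx1D⟩
    have h1 := hmax ⟨S0, hne, hS0 (hDQ htD0)⟩
    exact hlt.ne (eq_of_le_of_card_ge hlt.le h1)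
  have hD0M : D0 ≤ M := le_normalizer
  -- the 2-core of `M`
  set D := (Cfsg.pCore 2 M).map M.subtype with hD
  have hDM : D ≤ M := map_subtype_le _
  have hD2 : IsPGroup 2 D := CfsgLib.PCore.pCore_isPGroup.map _
  have hDconj : ∀ m ∈ M, ∀ z ∈ D, m * z * m⁻¹ ∈ D := by
    rintro m hm _ ⟨z, hz, rfl⟩
    haveI : (Cfsg.pCore 2 M).Normal := Subgroup.sSup_normal _ fun _ hN => hN.1
    exact ⟨⟨m, hm⟩ * z * ⟨m, hm⟩⁻¹, Subgroup.Normal.conj_mem inferInstance _ hz _, rfl⟩
  have hle2 : ∀ N : Subgroup G, N ≤ M → IsPGroup 2 N → (∀ m ∈ M, ∀ z ∈ N, m * z * m⁻¹ ∈ N) → N ≤ D := by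
    intro N hNM hN2 hNn z hz
    refine ⟨⟨z, hNM hz⟩, CfsgLib.PCore.le_pCore (N := N.subgroupOf M)
      ⟨fun w hw m => mem_subgroupOf.2 (hNn m m.2 w (mem_subgroupOf.1 hw))⟩
      (hN2.of_equiv (subgroupOfEquivOfLe hNM).symm) (mem_subgroupOf.2 hz), rfl⟩
  have hD0D : D0 ≤ D := hle2 D0 hD0M hD02 fun m hm z hz => (Subgroup.mem_normalizer_iff.1 hm z).1 hz
  have htD : t ∈ D := hD0D htD0
  have hDS : D ≤ S := by
    have hxz : zpowers x1 ≤ normalizer (D : Set G) := zpowers_le.2 <| Subgroup.mem_normalizer_iff.2 fun z =>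
      ⟨fun hz => hDconj x1 hx1N z hz, fun hz => by
        simpa [mul_assoc] using hDconj x1⁻¹ (inv_mem hx1N) _ hz⟩
    exact le_sup_left.trans (hkey (D ⊔ zpowers x1)
      (hD2.to_sup_of_normal_left' (S.2.to_le (zpowers_le.2 hx1S)) hxz)
      (hD0D.trans le_sup_left) (le_sup_right (a := D) (mem_zpowers x1)))
  have hDne : D ≠ ⊥ := fun e =>
    CfsgLib.Involutions.ne_one_of_involution ht (mem_bot.1 (e ▸ htD : t ∈ (⊥ : Subgroup G)))
  have hND : normalizer (D : Set G) = M := by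
    refine (coatom_eq hM (h.norm_ne_top hDne (TwoPrime.of_isPGroup hD2)) fun m hm => ?_).symm
    exact Subgroup.mem_normalizer_iff.2 fun z =>
      ⟨fun hz => hDconj m hm z hz, fun hz => by simpa [mul_assoc] using hDconj m⁻¹ (inv_mem hm) _ hz⟩
  have htc : ∀ z ∈ D, z * t = t * z := fun z hz => htZ z (hDS hz)
  -- no odd element centralises a nontrivial element of `D`
  have hfpf : ∀ y ∈ M, ∀ {p : ℕ}, p.Prime → p ≠ 2 → orderOf y = p → ∀ z ∈ D, z * y = y * z → z = 1 := by
    intro y hy p hp hp2 hyp z hz hzy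
    by_contra hz1
    obtain ⟨a, ha⟩ := isPGroup_orderOf hD2 hz
    obtain ⟨k, hk⟩ := exists_involution_pow ha hz1
    have hy1 : y ≠ 1 := fun e => hp.one_lt.ne' (by rw [← hyp, e, orderOf_one])
    have e := h.centralizer_eq_norm (q := z ^ k) hk (b := 1) hp hp2 (by rw [hyp, pow_one]) hy1
      (Commute.pow_left (show Commute z y from hzy) k)
    have htq : t ∈ normalizer (zpowers y : Set G) := by
      rw [← e, mem_centralizer_singleton_iff]
      exact (Commute.pow_left (show Commute z t from htc z hz) k).symm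
    have h1 : t * y * t⁻¹ * y⁻¹ ∈ zpowers y := mul_mem (mem_norm_zpowers.1 htq) (inv_mem (mem_zpowers y))
    have h2 : t * y * t⁻¹ * y⁻¹ ∈ D := by
      rw [show t * y * t⁻¹ * y⁻¹ = t * (y * t⁻¹ * y⁻¹) by group]
      exact mul_mem htD (hDconj y hy _ (inv_mem htD))
    obtain ⟨b, hb⟩ := isPGroup_orderOf hD2 h2
    have h3 := eq_one_of_two_odd hb (hp.odd_of_ne_two hp2) (hyp ▸ orderOf_dvd_of_mem_zpowers h1)
    have hyC : y ∈ centralizer ({t} : Set G) := mem_centralizer_singleton_iff.2 (by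
      rw [mul_inv_eq_one, mul_inv_eq_iff_eq_mul] at h3; exact h3.symm)
    obtain ⟨b', hb'⟩ := isPGroup_orderOf hC hyC
    exact hy1 (eq_one_of_two_odd hb' (hp.odd_of_ne_two hp2) (by rw [hyp]))
  -- an element of odd prime order inverted by an involution outside `D`
  obtain ⟨p, hp, hp2, y, hy, hyp, v, hv, hv2, hvD, hinv⟩ :
      ∃ p : ℕ, p.Prime ∧ p ≠ 2 ∧ ∃ y ∈ M, orderOf y = p ∧ ∃ v ∈ M, orderOf v = 2 ∧ v ∉ D ∧
        v * y * v⁻¹ = y⁻¹ := by
    have hx2D' : x2 ∉ D := fun e => hx2D ⟨hDS e, hx2B⟩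
    haveI : (Cfsg.pCore 2 M).Normal := Subgroup.sSup_normal _ fun _ hN => hN.1
    set π := QuotientGroup.mk' (Cfsg.pCore 2 M) with hπ
    have hker : ∀ m : M, π m = 1 ↔ (m : G) ∈ D := fun m => by
      rw [hπ, QuotientGroup.mk'_apply, QuotientGroup.eq_one_iff]
      exact ⟨fun hm => ⟨m, hm, rfl⟩, fun ⟨m', hm', e⟩ => M.subtype_injective e ▸ hm'⟩
    have hw1 : π ⟨x2, hx2N⟩ ≠ 1 := fun e => hx2D' ((hker _).1 e)
    obtain ⟨a, ha⟩ := isPGroup_orderOf B.2 hx2B
    have hwa : orderOf (π ⟨x2, hx2N⟩) ∣ 2 ^ a :=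
      (orderOf_map_dvd π _).trans (by rwa [Subgroup.orderOf_mk])
    obtain ⟨k, hk⟩ := exists_involution_pow hwa hw1
    set A := π ⟨x2, hx2N⟩ ^ k with hA
    -- Baer–Suzuki
    obtain ⟨c, hc⟩ : ∃ c : M ⧸ Cfsg.pCore 2 M,
        ¬ IsPGroup 2 ↥(zpowers A ⊔ (zpowers A).map (MulAut.conj c).toMonoidHom) := by
      by_contra hno
      push Not at hno
      have hA2 : IsPGroup 2 (zpowers A) :=
        IsPGroup.of_card (n := 1) (by rw [Nat.card_zpowers, hk, pow_one])
      obtain ⟨N, hN, hN2, hAN⟩ := Cfsg.Agent.S0199.result (zpowers A) hA2 hno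
      have hk2 : IsPGroup 2 π.ker := by
        rw [hπ, QuotientGroup.ker_mk']
        exact CfsgLib.PCore.pCore_isPGroup
      have h1 : N.comap π ≤ Cfsg.pCore 2 M :=
        CfsgLib.PCore.le_pCore (hN.comap π) (hN2.comap_of_ker_isPGroup π hk2)
      have h2 : (⟨x2, hx2N⟩ : M) ^ k ∈ Cfsg.pCore 2 M := h1 (by
        rw [mem_comap, map_pow]; exact hAN (mem_zpowers A))
      exact CfsgLib.Involutions.ne_one_of_involution hk (by
        rw [hA, ← map_pow]; exact (QuotientGroup.eq_one_iff _).2 h2)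
    set B' := c * A * c⁻¹
    have hB' : orderOf B' = 2 := by rw [CfsgLib.Involutions.orderOf_conj_eq, hk]
    have hne2 : ∀ j : ℕ, orderOf (A * B') ≠ 2 ^ j := by
      intro j hj
      refine hc ((CfsgLib.Involutions.isPGroup_two_closure_pair hk hB' hj).to_le ?_)
      rw [MonoidHom.map_zpowers, sup_le_iff, zpowers_le, zpowers_le]
      exact ⟨subset_closure (Or.inl rfl), subset_closure (Or.inr rfl)⟩
    obtain ⟨p, hp, hpd, hp2⟩ : ∃ p : ℕ, p.Prime ∧ p ∣ orderOf (A * B') ∧ p ≠ 2 := by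
      by_contra hno
      push Not at hno
      exact hne2 _ (Nat.eq_prime_pow_of_unique_prime_dvd (orderOf_pos _).ne' fun {d} hd hdd => hno d hd hdd)
    set Y := (A * B') ^ (orderOf (A * B') / p)
    have hY : orderOf Y = p := orderOf_pow_orderOf_div (orderOf_pos _).ne' hpd
    have hAY : A * Y * A⁻¹ = Y⁻¹ :=
      CfsgLib.Involutions.inverts_pow (CfsgLib.Involutions.left_inverts_prod hk hB') _
    obtain ⟨y0, hy0⟩ := QuotientGroup.mk'_surjective (Cfsg.pCore 2 M) Y
    obtain ⟨m, hm⟩ := QuotientGroup.mk'_surjective (Cfsg.pCore 2 M) A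
    have hyp0 : ((y0 ^ p : M) : G) ∈ D := (hker _).1 (by rw [map_pow, hπ, hy0, ← hY, pow_orderOf_eq_one])
    obtain ⟨b, hb⟩ := isPGroup_orderOf hD2 hyp0
    have hb' : ((y0 ^ (2 ^ b) : M) : G) ^ p = 1 := by
      rw [SubgroupClass.coe_pow, ← pow_mul, mul_comm, pow_mul, ← SubgroupClass.coe_pow y0 p]
      exact orderOf_dvd_iff_pow_eq_one.1 hb
    have hyb : orderOf ((y0 ^ (2 ^ b) : M) : G) = p := by
      haveI := Fact.mk hp
      refine orderOf_eq_prime hb' fun e => ?_
      have h1 : Y ^ (2 ^ b) = 1 := by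
        rw [← hy0, ← map_pow, show y0 ^ (2 ^ b) = 1 from Subtype.ext e, map_one]
      have h2 := orderOf_dvd_of_pow_eq_one h1
      rw [hY] at h2
      exact hp2 ((Nat.prime_dvd_prime_iff_eq hp Nat.prime_two).1 (hp.dvd_of_dvd_pow h2))
    set y : G := ((y0 ^ (2 ^ b) : M) : G) with hydef
    have hyM : y ∈ M := (y0 ^ (2 ^ b) : M).2
    have hδ : y * ((m : G) * y * (m : G)⁻¹) ∈ D :=
      (hker (y0 ^ (2 ^ b) * (m * y0 ^ (2 ^ b) * m⁻¹))).1 (by
        simp only [map_mul, map_inv, map_pow]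
        rw [hπ, hy0, hm, CfsgLib.Involutions.inverts_pow hAY, mul_inv_cancel])
    let f : D → D := fun d => ⟨y * d * y⁻¹ * (d : G)⁻¹, mul_mem (hDconj y hyM d d.2) (inv_mem d.2)⟩
    have hf : Function.Injective f := fun d d' e => by
      have e' : y * d * y⁻¹ * (d : G)⁻¹ = y * d' * y⁻¹ * (d' : G)⁻¹ := congrArg Subtype.val e
      have hz : ((d' : G)⁻¹ * d) * y = y * ((d' : G)⁻¹ * d) := by
        have e2 : y * ((d' : G)⁻¹ * d) * y⁻¹ = (d' : G)⁻¹ * d := by
          calc y * ((d' : G)⁻¹ * d) * y⁻¹ = (y * d' * y⁻¹)⁻¹ * (y * d * y⁻¹ * (d : G)⁻¹) * d := by group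
            _ = (y * d' * y⁻¹)⁻¹ * (y * d' * y⁻¹ * (d' : G)⁻¹) * d := by rw [e']
            _ = _ := by group
        exact (mul_inv_eq_iff_eq_mul.1 e2).symm
      have := hfpf y hyM hp hp2 hyb _ (mul_mem (inv_mem d'.2) d.2) hz
      exact Subtype.ext (inv_mul_eq_one.1 this).symm
    obtain ⟨d, hd⟩ := Finite.surjective_of_injective hf ⟨_, hδ⟩
    have hd' : y * d * y⁻¹ * (d : G)⁻¹ = y * ((m : G) * y * (m : G)⁻¹) := congrArg Subtype.val hd
    set v : G := (d : G)⁻¹ * m with hvdef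
    have hinv : v * y * v⁻¹ = y⁻¹ := by
      have e : (m : G) * y * (m : G)⁻¹ = (d : G) * y⁻¹ * (d : G)⁻¹ :=
        mul_left_cancel (hd'.symm.trans (by group))
      calc v * y * v⁻¹ = (d : G)⁻¹ * ((m : G) * y * (m : G)⁻¹) * d := by rw [hvdef]; group
        _ = y⁻¹ := by rw [e]; group
    have hvM : v ∈ M := mul_mem (inv_mem (hDM d.2)) m.2
    have hπv : π ⟨v, hvM⟩ = A := by
      rw [show (⟨v, hvM⟩ : M) = (⟨(d : G), hDM d.2⟩ : M)⁻¹ * m from rfl, map_mul, map_inv,
        (hker ⟨(d : G), hDM d.2⟩).2 d.2, inv_one, one_mul]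
      exact hm
    have hvD : v ∉ D := fun e =>
      CfsgLib.Involutions.ne_one_of_involution hk (hπv ▸ (hker ⟨v, hvM⟩).2 e)
    have hvv : v * v = 1 := by
      have h1 : v * v ∈ D := (hker (⟨v, hvM⟩ * ⟨v, hvM⟩)).1 (by
        rw [map_mul, hπv, CfsgLib.Involutions.mul_self_eq_one hk])
      refine hfpf y hyM hp hp2 hyb _ h1 (mul_inv_eq_iff_eq_mul.1 ?_)
      calc v * v * y * (v * v)⁻¹ = v * (v * y * v⁻¹) * v⁻¹ := by group
        _ = y := by rw [hinv, ← zpow_neg_one, conj_zpow_of_inverts hinv, neg_neg, zpow_one]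
    exact ⟨p, hp, hp2, y, hyM, hyb, v, hvM, CfsgLib.Involutions.orderOf_eq_two_iff_mul.2
      ⟨fun e => hvD (e ▸ one_mem _), hvv⟩, hvD, hinv⟩
  have hy1 : y ≠ 1 := fun e => hp.one_lt.ne' (by rw [← hyp, e, orderOf_one])
  have hyodd : Odd (orderOf y) := hyp ▸ hp.odd_of_ne_two hp2
  -- `U`, the involutions of the centre of `D`
  let U : Subgroup G :=
    { carrier := {z | z ∈ D ∧ z * z = 1 ∧ ∀ d ∈ D, z * d = d * z}
      one_mem' := ⟨one_mem _, one_mul _, fun d _ => by simp⟩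
      mul_mem' := fun {a b} ⟨ha, ha2, hac⟩ ⟨hb, hb2, hbc⟩ => ⟨mul_mem ha hb,
        by rw [mul_assoc, ← mul_assoc b, hbc a ha, mul_assoc a b b, hb2, mul_one, ha2],
        fun d hd => by rw [mul_assoc, hbc d hd, ← mul_assoc, hac d hd, mul_assoc]⟩
      inv_mem' := fun {a} ⟨ha, ha2, hac⟩ => by
        rw [inv_eq_of_mul_eq_one_right ha2]; exact ⟨ha, ha2, hac⟩ }
  have htU : t ∈ U := ⟨htD, CfsgLib.Involutions.mul_self_eq_one ht, fun d hd => (htc d hd).symm⟩
  have hUconj : ∀ m ∈ M, ∀ z ∈ U, m * z * m⁻¹ ∈ U := by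
    rintro m hm z ⟨hz, hz2, hzc⟩
    refine ⟨hDconj m hm z hz, by rw [conj_mul, hz2, mul_one, mul_inv_cancel], fun d hd => ?_⟩
    have hd' : m⁻¹ * d * m ∈ D := by simpa using hDconj m⁻¹ (inv_mem hm) d hd
    calc m * z * m⁻¹ * d = m * (z * (m⁻¹ * d * m)) * m⁻¹ := by group
      _ = m * ((m⁻¹ * d * m) * z) * m⁻¹ := by rw [hzc _ hd']
      _ = d * (m * z * m⁻¹) := by group
  have hcentU : M ⊓ centralizer (U : Set G) ≤ D := by
    refine hle2 _ inf_le_left (hC.to_le fun z hz => ?_) ?_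
    · exact mem_centralizer_singleton_iff.2 (mem_centralizer_iff.1 hz.2 t htU).symm
    · intro m hm z hz
      refine ⟨M.mul_mem (M.mul_mem hm hz.1) (M.inv_mem hm), mem_centralizer_iff.2 fun u hu => ?_⟩
      have hu' : m⁻¹ * u * m ∈ U := by simpa using hUconj m⁻¹ (inv_mem hm) u hu
      calc u * (m * z * m⁻¹) = m * ((m⁻¹ * u * m) * z) * m⁻¹ := by group
        _ = m * (z * (m⁻¹ * u * m)) * m⁻¹ := by rw [mem_centralizer_iff.1 hz.2 _ hu']
        _ = m * z * m⁻¹ * u := by group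
  -- an involution outside `D` centralises a subgroup of index at most two of `D`
  have hind : ∀ w ∈ M, w ∉ D → w * w = 1 → ((centralizer ({w} : Set G)) ⊓ D).relIndex D ≤ 2 := by
    intro w hw hwD hw2
    obtain ⟨u, hu, huw⟩ : ∃ u ∈ U, u * w ≠ w * u := by
      by_contra hno
      push Not at hno
      exact hwD (hcentU ⟨hw, mem_centralizer_iff.2 fun u hu => hno u hu⟩)
    obtain ⟨huD, hu2, huc⟩ := hu
    set s := w * u with hs
    set cc := s * s with hcc
    have hwi : w⁻¹ = w := inv_eq_of_mul_eq_one_right hw2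
    have hui : u⁻¹ = u := inv_eq_of_mul_eq_one_right hu2
    have hu' : w * u * w⁻¹ ∈ U := hUconj w hw u ⟨huD, hu2, huc⟩
    have ecc : cc = (w * u * w⁻¹) * u := by rw [hcc, hs, hwi]; group
    have hccU : cc ∈ U := ecc ▸ mul_mem hu' ⟨huD, hu2, huc⟩
    have hcc1 : cc ≠ 1 := fun e => huw (by
      rw [hcc] at e
      have := inv_eq_of_mul_eq_one_right e
      rw [hs, mul_inv_rev, hwi, hui] at this
      exact this)
    have hcco : orderOf cc = 2 := CfsgLib.Involutions.orderOf_eq_two_iff_mul.2 ⟨hcc1, hccU.2.1⟩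
    have hs4 : s ^ 4 = 1 := by
      rw [show (4 : ℕ) = 2 * 2 from rfl, pow_mul, pow_two s, ← hcc, pow_two]; exact hccU.2.1
    have eN := h.norm_two_element (a := 2) (s := s) (k := 2) (orderOf_dvd_of_pow_eq_one hs4) hcco
      (by rw [pow_two])
    have hsD : s ∉ D := fun e => hwD (by simpa [hs] using mul_mem e (inv_mem huD))
    have hval : ∀ d ∈ D, d * w * d⁻¹ * w⁻¹ ∈ zpowers cc := by
      intro d hd
      have hdN : d ∈ normalizer (zpowers s : Set G) := by
        rw [eN]; exact mem_centralizer_singleton_iff.2 (hccU.2.2 d hd).symm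
      have h1 : d * w * d⁻¹ * w⁻¹ ∈ zpowers s := by
        have e : d * w * d⁻¹ * w⁻¹ = d * s * d⁻¹ * s⁻¹ := by
          rw [hs]
          calc d * w * d⁻¹ * w⁻¹ = d * w * (d⁻¹ * u) * u⁻¹ * w⁻¹ := by group
            _ = d * w * (u * d⁻¹) * u⁻¹ * w⁻¹ := by rw [huc _ (inv_mem hd)]
            _ = _ := by group
        rw [e]
        exact mul_mem (mem_norm_zpowers.1 hdN) (inv_mem (mem_zpowers s))
      have h2 : d * w * d⁻¹ * w⁻¹ ∈ D := by
        rw [show d * w * d⁻¹ * w⁻¹ = d * (w * d⁻¹ * w⁻¹) by group]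
        exact mul_mem hd (hDconj w hw _ (inv_mem hd))
      obtain ⟨i, hi⟩ := h1
      dsimp only at hi
      rw [← hi] at h2 ⊢
      rcases Int.even_or_odd i with ⟨j, rfl⟩ | ⟨j, rfl⟩
      · exact ⟨j, by dsimp only; rw [hcc, ← two_mul, zpow_mul, zpow_two]⟩
      · exfalso
        apply hsD
        rw [zpow_add, zpow_mul, zpow_two, ← hcc, zpow_one] at h2
        exact (mul_mem_cancel_left (zpow_mem hccU.1 j)).1 h2
    set C := (centralizer ({w} : Set G)) ⊓ D
    let g : D ⧸ C.subgroupOf D → zpowers cc := fun q =>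
      ⟨(q.out : G) * w * (q.out : G)⁻¹ * w⁻¹, hval _ q.out.2⟩
    have hg : Function.Injective g := fun q q' e => by
      have e' : (q.out : G) * w * (q.out : G)⁻¹ = (q'.out : G) * w * (q'.out : G)⁻¹ :=
        mul_right_cancel (congrArg Subtype.val e : _)
      have : (q'.out : D)⁻¹ * q.out ∈ C.subgroupOf D := by
        refine mem_subgroupOf.2 ⟨mul_mem_centralizer_iff.2 ?_, ((q'.out : D)⁻¹ * q.out).2⟩
        simp only [Subgroup.coe_mul, Subgroup.coe_inv]
        calc (q'.out : G)⁻¹ * q.out * w * ((q'.out : G)⁻¹ * q.out)⁻¹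
            = (q'.out : G)⁻¹ * ((q.out : G) * w * (q.out : G)⁻¹) * q'.out := by group
          _ = w := by rw [e']; group
      rw [← QuotientGroup.eq, QuotientGroup.out_eq', QuotientGroup.out_eq'] at this
      exact this.symm
    calc C.relIndex D = Nat.card (D ⧸ C.subgroupOf D) := Subgroup.index_eq_card _
      _ ≤ Nat.card (zpowers cc) := Nat.card_le_card_of_injective g hg
      _ = 2 := by rw [Nat.card_zpowers, hcco]
  -- hence `|D| ≤ 4`
  have hv' : (v * y) * (v * y) = 1 := by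
    have e : v * y * v = y⁻¹ := by
      conv_lhs => arg 2; rw [← CfsgLib.Involutions.inv_eq_self_of_involution hv2]
      exact hinv
    rw [← mul_assoc, e, inv_mul_cancel]
  have hv'D : v * y ∉ D := fun e => by
    have h1 : y * (v * y) * y⁻¹ * (v * y) ∈ D := mul_mem (hDconj y hy _ e) e
    rw [show y * (v * y) * y⁻¹ * (v * y) = y * (v * v) * y by group,
      CfsgLib.Involutions.mul_self_eq_one hv2, mul_one] at h1
    obtain ⟨b, hb⟩ := isPGroup_orderOf hD2 h1
    have h2 : y * y = 1 := eq_one_of_two_odd hb hyodd (by rw [← pow_two]; exact orderOf_pow_dvd 2)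
    exact hy1 (eq_one_of_two_odd (a := 1)
      (by rw [pow_one]; exact orderOf_dvd_of_pow_eq_one (by rw [pow_two]; exact h2)) hyodd dvd_rfl)
  have hbot : (centralizer ({v} : Set G) ⊓ D) ⊓ (centralizer ({v * y} : Set G) ⊓ D) = ⊥ := by
    rw [eq_bot_iff]
    rintro z ⟨⟨h1, hz⟩, ⟨h2, -⟩⟩
    refine mem_bot.2 (hfpf y hy hp hp2 hyp z hz ?_)
    have h1' : Commute z v := mem_centralizer_singleton_iff.1 h1
    have h2' : Commute z (v * y) := mem_centralizer_singleton_iff.1 h2
    have h3 := h1'.mul_right h2'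
    rwa [← mul_assoc, CfsgLib.Involutions.mul_self_eq_one hv2, one_mul] at h3
  have hle4 : Nat.card D ≤ 4 := by
    have h1 := Subgroup.relIndex_inf_le (H := centralizer ({v} : Set G) ⊓ D)
      (K := centralizer ({v * y} : Set G) ⊓ D) (L := D)
    rw [hbot, relIndex_bot_left] at h1
    exact h1.trans (Nat.mul_le_mul (hind v hv hvD (CfsgLib.Involutions.mul_self_eq_one hv2))
      (hind _ (mul_mem hv hy) hv'D hv'))
  -- `D` is a four group permuted transitively by `y`
  set t2 := y * t * y⁻¹ with ht2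
  have ht2D : t2 ∈ D := hDconj y hy t htD
  have ht1 : t ≠ 1 := CfsgLib.Involutions.ne_one_of_involution ht
  have hne12 : t2 ≠ t := fun e => ht1 (hfpf y hy hp hp2 hyp t htD (mul_inv_eq_iff_eq_mul.1 e).symm)
  have ht22 : orderOf t2 = 2 := by rw [ht2, CfsgLib.Involutions.orderOf_conj_eq, ht]
  have hall : ∀ z ∈ D, z = 1 ∨ z = t ∨ z = t2 ∨ z = t * t2 := by
    intro z hz
    haveI := Fintype.ofFinite G
    have hsub : ({1, t, t2, t * t2} : Finset G) ⊆ (D : Set G).toFinset := by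
      intro a ha
      simp only [Finset.mem_insert, Finset.mem_singleton] at ha
      rw [Set.mem_toFinset]
      rcases ha with rfl | rfl | rfl | rfl
      exacts [one_mem _, htD, ht2D, mul_mem htD ht2D]
    have h4 : ({1, t, t2, t * t2} : Finset G).card = 4 := by
      rw [Finset.card_insert_of_notMem, Finset.card_insert_of_notMem, Finset.card_insert_of_notMem,
        Finset.card_singleton]
      · simp only [Finset.mem_singleton]
        exact fun e => ht1 (mul_eq_right.1 e.symm)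
      · simp only [Finset.mem_insert, Finset.mem_singleton, not_or]
        exact ⟨hne12.symm, fun e => CfsgLib.Involutions.ne_one_of_involution ht22 (mul_eq_left.1 e.symm)⟩
      · simp only [Finset.mem_insert, Finset.mem_singleton, not_or]
        refine ⟨ht1.symm, (CfsgLib.Involutions.ne_one_of_involution ht22).symm, fun e => hne12 ?_⟩
        rw [← inv_eq_of_mul_eq_one_right e.symm, CfsgLib.Involutions.inv_eq_self_of_involution ht]
    have heq := Finset.eq_of_subset_of_card_le hsub (by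
      rw [h4, Set.toFinset_card, ← Nat.card_eq_fintype_card]; exact hle4)
    have : z ∈ ({1, t, t2, t * t2} : Finset G) := by rw [heq, Set.mem_toFinset]; exact hz
    simpa only [Finset.mem_insert, Finset.mem_singleton] using this
  have ht12 : t * t2 = t2 * t := (htc t2 ht2D).symm
  have hsq : ∀ z ∈ D, z * z = 1 := by
    intro z hz
    rcases hall z hz with rfl | rfl | rfl | rfl
    · exact one_mul _
    · exact CfsgLib.Involutions.mul_self_eq_one ht
    · exact CfsgLib.Involutions.mul_self_eq_one ht22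
    · calc t * t2 * (t * t2) = t * (t2 * t) * t2 := by group
        _ = t * t * (t2 * t2) := by rw [← ht12]; group
        _ = 1 := by rw [CfsgLib.Involutions.mul_self_eq_one ht,
          CfsgLib.Involutions.mul_self_eq_one ht22, one_mul]
  have hcomm : ∀ z ∈ D, ∀ z' ∈ D, z * z' = z' * z := by
    intro z hz z' hz'
    calc z * z' = (z * z')⁻¹ := (inv_eq_of_mul_eq_one_right (hsq _ (mul_mem hz hz'))).symm
      _ = z' * z := by rw [mul_inv_rev, inv_eq_of_mul_eq_one_right (hsq _ hz),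
        inv_eq_of_mul_eq_one_right (hsq _ hz')]
  have hcard : Nat.card D = 4 := by
    refine le_antisymm hle4 ?_
    have h2 : 2 ∣ Nat.card D := ht ▸ Subgroup.orderOf_dvd_natCard D htD
    obtain ⟨n, hn⟩ := IsPGroup.iff_card.1 hD2
    rcases n with _ | _ | n
    · rw [hn] at h2; norm_num at h2
    · exfalso
      have h3 : zpowers t = D := eq_of_le_of_card_ge (zpowers_le.2 htD) (by rw [Nat.card_zpowers, ht, hn]; norm_num)
      rcases eq_or_eq_one_of_mem_zpowers ht (h3 ▸ ht2D : t2 ∈ zpowers t) with e | e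
      · exact CfsgLib.Involutions.ne_one_of_involution ht22 e
      · exact hne12 e
    · rw [hn, pow_succ, pow_succ]
      have := pow_pos (two_pos : 0 < 2) n
      omega
  have hp3 : p = 3 := by
    set t3 := t * t2
    have h3D : t3 ∈ D := mul_mem htD ht2D
    have e3 : y * t3 * y⁻¹ = t2 * (y * t2 * y⁻¹) := by simp [t3, t2, mul_assoc]
    rcases hall _ (hDconj y hy t2 ht2D) with e | e | e | e
    · exact absurd (conj_eq_one_iff.1 e) (CfsgLib.Involutions.ne_one_of_involution ht22)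
    · exfalso
      apply hne12
      have hy2 : y ^ 2 * t = t * y ^ 2 := by
        refine mul_inv_eq_iff_eq_mul.1 ?_
        calc y ^ 2 * t * (y ^ 2)⁻¹ = y * (y * t * y⁻¹) * y⁻¹ := by rw [pow_two]; group
          _ = t := e
      obtain ⟨c, hc⟩ := hyodd
      have hyy : y = (y ^ 2) ^ (c + 1) := by
        rw [← pow_mul, show 2 * (c + 1) = orderOf y + 1 by omega, pow_succ, pow_orderOf_eq_one, one_mul]
      have : Commute y t := by rw [hyy]; exact Commute.pow_left hy2 _
      rw [ht2, this.eq, mul_inv_cancel_right]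
    · exact absurd (hfpf y hy hp hp2 hyp t2 ht2D (mul_inv_eq_iff_eq_mul.1 e).symm)
        (CfsgLib.Involutions.ne_one_of_involution ht22)
    · have hy3 : y ^ 3 * t * (y ^ 3)⁻¹ = t := by
        calc y ^ 3 * t * (y ^ 3)⁻¹ = y * (y * (y * t * y⁻¹) * y⁻¹) * y⁻¹ := by
              rw [pow_succ, pow_two]; simp only [mul_inv_rev, mul_assoc]
          _ = t2 * (y * t2 * y⁻¹) := by rw [← ht2, e]; exact e3.trans (by rw [e])
          _ = t := by rw [e, ← mul_assoc, ← ht12, mul_assoc,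
            CfsgLib.Involutions.mul_self_eq_one ht22, mul_one]
      obtain ⟨b, hb⟩ := isPGroup_orderOf hC (mem_centralizer_singleton_iff.2
        (mul_inv_eq_iff_eq_mul.1 hy3) : y ^ 3 ∈ centralizer ({t} : Set G))
      have h1 := eq_one_of_two_odd hb hyodd (orderOf_pow_dvd 3)
      have := orderOf_dvd_of_pow_eq_one h1
      rw [hyp] at this
      exact (Nat.prime_dvd_prime_iff_eq hp Nat.prime_three).1 this
  refine ⟨⟨D, y, v, hDS, htD, hcard, hsq, hcomm, hND ▸ hM, ?_, hND ▸ hy, hND ▸ hv, hv2, hyp.trans hp3, hinv,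
    fun z hz e => hfpf y hy hp hp2 hyp z hz (mul_inv_eq_iff_eq_mul.1 e).symm⟩⟩
  intro z hz
  exact hcentU ⟨hND ▸ centralizer_le_normalizer (D : Set G) hz, mem_centralizer_iff.2 fun u hu =>
    mem_centralizer_iff.1 hz u hu.1⟩

end CfsgLib.MaxNorm
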