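import Mathlib
import Cfsg.Agent.S0112
import Cfsg.Agent.S0113
import Cfsg.Agent.Lib.Transfer.Basic
import Cfsg.Agent.Lib.PSL2.Involution
import Cfsg.Agent.Lib.MaxNorm.TwoLocal

/-!
A 2-central involution of the socle does not have a 2-group centralizer.
-/

set_option autoImplicit false

namespace CfsgLib.MaxNorm

open Subgroup

variable {G : Type*} [Group G] [Finite G]

theorem false_of_two_centralizer (h : NormMax G) {T : Subgroup G} [T.Normal] (hsimple : IsSimpleGroup T)
    (hCT : centralizer (T : Set G) = ⊥) (S : Sylow 2 G) {t : G} (ht : orderOf t = 2) (htT : t ∈ T)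
    (htS : t ∈ S) (htZ : ∀ s ∈ (S : Subgroup G), s * t = t * s)
    (hC : IsPGroup 2 (centralizer ({t} : Set G))) : False := by
  classical
  haveI : Fact (Nat.Prime 2) := ⟨Nat.prime_two⟩
  obtain ⟨L⟩ := exists_fourLocal h hsimple hCT S ht htT htS htZ hC
  have hSC : (S : Subgroup G) = centralizer ({t} : Set G) :=
    (S.is_maximal' hC fun s hs => mem_centralizer_singleton_iff.2 (htZ s hs)).symm
  have hScoatom : IsCoatom (S : Subgroup G) := hSC ▸ h.isCoatom_centralizer ht
  have ht1 : t ≠ 1 := CfsgLib.Involutions.ne_one_of_involution ht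
  set y := L.y
  set v := L.v
  have hyodd : Odd (orderOf y) := by rw [show orderOf y = 3 from L.yord]; decide
  have hy1 : y ≠ 1 := fun e => by have := L.yord; rw [show L.y = 1 from e, orderOf_one] at this; omega
  have hDS := L.leS
  set M := normalizer (L.D : Set G) with hMdef
  have hMcoatom : IsCoatom M := L.coatom
  have hconj : ∀ m ∈ M, ∀ z ∈ L.D, m * z * m⁻¹ ∈ L.D := fun m hm z hz =>
    (Subgroup.mem_normalizer_iff.1 hm z).1 hz
  set t2 := y * t * y⁻¹ with ht2
  have ht2D : t2 ∈ L.D := hconj y L.ymem t L.mem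
  have hne12 : t2 ≠ t := fun e => ht1 (L.fpf t L.mem e)
  have ht22 : orderOf t2 = 2 := by rw [ht2, CfsgLib.Involutions.orderOf_conj_eq, ht]
  have ht12 : t * t2 = t2 * t := L.comm t L.mem t2 ht2D
  set t3 := t * t2 with ht3
  have hall : ∀ z ∈ L.D, z = 1 ∨ z = t ∨ z = t2 ∨ z = t3 := by
    intro z hz
    haveI := Fintype.ofFinite G
    have hsub : ({1, t, t2, t3} : Finset G) ⊆ (L.D : Set G).toFinset := by
      intro a ha
      simp only [Finset.mem_insert, Finset.mem_singleton] at ha
      rw [Set.mem_toFinset]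
      rcases ha with rfl | rfl | rfl | rfl
      exacts [one_mem _, L.mem, ht2D, mul_mem L.mem ht2D]
    have h4 : ({1, t, t2, t3} : Finset G).card = 4 := by
      rw [Finset.card_insert_of_notMem, Finset.card_insert_of_notMem, Finset.card_insert_of_notMem,
        Finset.card_singleton]
      · simp only [Finset.mem_singleton]
        exact fun e => ht1 (mul_eq_right.1 e.symm)
      · simp only [Finset.mem_insert, Finset.mem_singleton, not_or]
        exact ⟨hne12.symm, fun e => CfsgLib.Involutions.ne_one_of_involution ht22 (mul_eq_left.1 e.symm)⟩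
      · simp only [Finset.mem_insert, Finset.mem_singleton, not_or]
        refine ⟨ht1.symm, (CfsgLib.Involutions.ne_one_of_involution ht22).symm, fun e => hne12 ?_⟩
        rw [← inv_eq_of_mul_eq_one_right e.symm, CfsgLib.Involutions.inv_eq_self_of_involution ht]
    have heq := Finset.eq_of_subset_of_card_le hsub (by
      rw [h4, Set.toFinset_card, ← Nat.card_eq_fintype_card]; exact L.card.le)
    have : z ∈ ({1, t, t2, t3} : Finset G) := by rw [heq, Set.mem_toFinset]; exact hz
    simpa only [Finset.mem_insert, Finset.mem_singleton] using this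
  have hDT : L.D ≤ T := by
    intro z hz
    have h2T : t2 ∈ T := (inferInstance : T.Normal).conj_mem t htT y
    rcases hall z hz with rfl | rfl | rfl | rfl
    exacts [one_mem _, htT, h2T, mul_mem htT h2T]
  -- an element of `S ∩ T` moving `t2`
  obtain ⟨r, hrR, hrM, hrD⟩ : ∃ r ∈ (S : Subgroup G) ⊓ T, r ∈ M ∧ r ∉ L.D := by
    refine exists_normalizing (S.2.to_le inf_le_left) (lt_of_le_of_ne (le_inf hDS hDT) fun e => ?_)
    have hSM : (S : Subgroup G) ≤ M := fun s hs => Subgroup.mem_normalizer_iff.2 fun z => by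
      have hh : ∀ a ∈ (S : Subgroup G), ∀ w ∈ L.D, a * w * a⁻¹ ∈ L.D := fun a ha w hw => by
        rw [e] at hw ⊢
        exact mem_inf.2 ⟨(S : Subgroup G).mul_mem ((S : Subgroup G).mul_mem ha hw.1) ((S : Subgroup G).inv_mem ha), (inferInstance : T.Normal).conj_mem w hw.2 a⟩
      exact ⟨fun hz => hh s hs z hz, fun hz => by simpa [mul_assoc] using hh s⁻¹ (inv_mem hs) _ hz⟩
    have hyS : y ∈ (S : Subgroup G) := by
      rw [coatom_eq hScoatom hMcoatom.1 hSM]; exact L.ymem
    obtain ⟨b, hb⟩ := isPGroup_orderOf S.2 hyS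
    exact hy1 (eq_one_of_two_odd hb hyodd dvd_rfl)
  have hcommS : ∀ m : G, m * t * m⁻¹ = t → m ∈ (S : Subgroup G) := fun m hm => by
    rw [hSC]; exact mul_mem_centralizer_iff.2 hm
  have hfix : ∀ m : G, m * t * m⁻¹ = t → m * t2 * m⁻¹ = t2 → m ∈ L.D := by
    intro m h1 h2
    refine L.cent (mem_centralizer_iff.2 fun z hz => ?_)
    have h1' : m * t = t * m := mul_inv_eq_iff_eq_mul.1 h1
    have h2' : m * t2 = t2 * m := mul_inv_eq_iff_eq_mul.1 h2
    rcases hall z hz with rfl | rfl | rfl | rfl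
    · simp
    · exact h1'.symm
    · exact h2'.symm
    · exact ((show Commute m t from h1').mul_right (show Commute m t2 from h2')).eq.symm
  have himg : ∀ m ∈ M, m * t * m⁻¹ = t → m * t2 * m⁻¹ = t2 ∨ m * t2 * m⁻¹ = t3 := by
    intro m hm h1
    rcases hall _ (hconj m hm t2 ht2D) with e | e | e | e
    · exact absurd (conj_eq_one_iff.1 e) (CfsgLib.Involutions.ne_one_of_involution ht22)
    · exact absurd (mul_left_cancel (mul_right_cancel (e.trans h1.symm))) hne12
    · exact Or.inl e
    · exact Or.inr e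
  have hrt : r * t * r⁻¹ = t := mul_inv_eq_iff_eq_mul.2 (htZ r hrR.1)
  have hrt2 : r * t2 * r⁻¹ = t3 := (himg r hrM hrt).resolve_left fun e => hrD (hfix r hrt e)
  have hrt3 : r * t3 * r⁻¹ = t2 := by
    rw [ht3, ← conj_mul, hrt, hrt2, ht3, ← mul_assoc, CfsgLib.Involutions.mul_self_eq_one ht, one_mul]
  have hfixT : ∀ m ∈ M, m * t * m⁻¹ = t → m ∈ T := by
    intro m hm h1
    rcases himg m hm h1 with e | e
    · exact hDT (hfix m h1 e)
    · have h2 : r⁻¹ * m ∈ L.D := by
        refine hfix _ ?_ ?_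
        · calc r⁻¹ * m * t * (r⁻¹ * m)⁻¹ = r⁻¹ * (m * t * m⁻¹) * r := by group
            _ = r⁻¹ * (r * t * r⁻¹) * r := by rw [h1, hrt]
            _ = t := by group
        · calc r⁻¹ * m * t2 * (r⁻¹ * m)⁻¹ = r⁻¹ * (m * t2 * m⁻¹) * r := by group
            _ = r⁻¹ * (r * t2 * r⁻¹) * r := by rw [e, hrt2]
            _ = t2 := by group
      have := T.mul_mem hrR.2 (hDT h2)
      rwa [mul_inv_cancel_left] at this
  -- `M ≤ T`, hence `T = G`
  have hyt2 : y * t2 * y⁻¹ = t3 := by
    rcases hall _ (hconj y L.ymem t2 ht2D) with e | e | e | e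
    · exact absurd (conj_eq_one_iff.1 e) (CfsgLib.Involutions.ne_one_of_involution ht22)
    · exfalso
      apply hne12
      have h3 : y ^ 3 = 1 := by rw [← L.yord]; exact pow_orderOf_eq_one y
      calc t2 = y * t * y⁻¹ := rfl
        _ = y * (y * t2 * y⁻¹) * y⁻¹ := by rw [e]
        _ = y ^ 3 * t * (y ^ 3)⁻¹ := by rw [ht2, pow_succ, pow_two]; group
        _ = t := by rw [h3, one_mul, inv_one, mul_one]
    · exact absurd (L.fpf t2 ht2D e) (CfsgLib.Involutions.ne_one_of_involution ht22)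
    · exact e
  set r' := y * r * y⁻¹ with hr'
  have hr'T : r' ∈ T := (inferInstance : T.Normal).conj_mem r hrR.2 y
  have hr'M : r' ∈ M := M.mul_mem (M.mul_mem L.ymem hrM) (M.inv_mem L.ymem)
  have hyt3 : y * t3 * y⁻¹ = t := by
    rw [ht3, ← conj_mul, ← ht2, hyt2, ht3, ← mul_assoc, ← ht12, mul_assoc,
      CfsgLib.Involutions.mul_self_eq_one ht22, mul_one]
  have hr't : r' * t * r'⁻¹ = t3 := by
    calc r' * t * r'⁻¹ = y * (r * (y⁻¹ * t * y) * r⁻¹) * y⁻¹ := by rw [hr']; group
      _ = y * (r * t3 * r⁻¹) * y⁻¹ := by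
        rw [show y⁻¹ * t * y = t3 by rw [← hyt3]; group]
      _ = t3 := by rw [hrt3, hyt2]
  have hMT : M ≤ T := by
    intro m hm
    rcases hall _ (hconj m hm t L.mem) with e | e | e | e
    · exact absurd (conj_eq_one_iff.1 e) ht1
    · exact hfixT m hm e
    · have h1 : (r * r')⁻¹ * m ∈ T := by
        refine hfixT _ (M.mul_mem (M.inv_mem (M.mul_mem hrM hr'M)) hm) ?_
        calc (r * r')⁻¹ * m * t * ((r * r')⁻¹ * m)⁻¹ = r'⁻¹ * (r⁻¹ * (m * t * m⁻¹) * r) * r' := by group
          _ = r'⁻¹ * (r⁻¹ * (r * t3 * r⁻¹) * r) * r' := by rw [e, hrt3]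
          _ = r'⁻¹ * (r' * t * r'⁻¹) * r' := by rw [hr't]; group
          _ = t := by group
      have := T.mul_mem (T.mul_mem hrR.2 hr'T) h1
      rwa [mul_inv_cancel_left] at this
    · have h1 : r'⁻¹ * m ∈ T := by
        refine hfixT _ (M.mul_mem (M.inv_mem hr'M) hm) ?_
        calc r'⁻¹ * m * t * (r'⁻¹ * m)⁻¹ = r'⁻¹ * (m * t * m⁻¹) * r' := by group
          _ = r'⁻¹ * (r' * t * r'⁻¹) * r' := by rw [e, hr't]
          _ = t := by group
      have := T.mul_mem hr'T h1
      rwa [mul_inv_cancel_left] at this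
  have hTtop : T = ⊤ := by
    rcases hMcoatom.le_iff.1 hMT with e | e
    · exact e
    exfalso
    haveI := hsimple
    haveI : (L.D.subgroupOf T).Normal := ⟨fun x hx m => mem_subgroupOf.2 (by
      simpa using hconj m (e.le m.2) x (mem_subgroupOf.1 hx))⟩
    rcases (inferInstance : (L.D.subgroupOf T).Normal).eq_bot_or_eq_top with h1 | h1
    · exact ht1 (Subgroup.disjoint_def.1 (subgroupOf_eq_bot.1 h1) L.mem htT)
    · have hyD : y ∈ L.D := subgroupOf_eq_top.1 h1 (hMT L.ymem)
      exact ht1 (L.fpf t L.mem (by rw [L.comm y hyD t L.mem, mul_inv_cancel_right]))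
  subst hTtop
  haveI : IsSimpleGroup G := by
    haveI := hsimple
    exact Subgroup.topEquiv.symm.isSimpleGroup
  -- `S` has maximal class
  have hrS : r ∈ (S : Subgroup G) := hrR.1
  obtain ⟨n, hn⟩ := IsPGroup.iff_card.1 S.2
  have hn3 : 3 ≤ n := by
    by_contra hh
    have h2 : Nat.card (S : Subgroup G) ≤ 4 := by
      rw [hn]
      exact (Nat.pow_le_pow_right two_pos (show n ≤ 2 by omega)).trans (by norm_num)
    exact hrD ((eq_of_le_of_card_ge hDS (h2.trans L.card.ge)).symm ▸ hrS)
  have hcardA : Nat.card (L.D.subgroupOf S) = 2 ^ 2 := by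
    rw [Nat.card_congr (subgroupOfEquivOfLe hDS).toEquiv, L.card]; norm_num
  have hCA : centralizer (L.D.subgroupOf S : Set (S : Subgroup G)) = L.D.subgroupOf S := by
    refine le_antisymm (fun z hz => mem_subgroupOf.2 (L.cent (mem_centralizer_iff.2 fun d hd => ?_))) ?_
    · exact congrArg Subtype.val (mem_centralizer_iff.1 hz ⟨d, hDS hd⟩ (mem_subgroupOf.2 hd))
    · exact fun z hz => mem_centralizer_iff.2 fun d hd =>
        Subtype.ext (L.comm d (mem_subgroupOf.1 hd) z (mem_subgroupOf.1 hz))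
  obtain ⟨C, hCcyc, hCidx⟩ := Cfsg.Agent.S0113.result n hn3 hn
    (Cfsg.Agent.S0112.result n hn (L.D.subgroupOf S) hcardA hCA)
  set K := C.map (S : Subgroup G).subtype with hK
  have hKidx : K.relIndex (S : Subgroup G) = 2 := by
    rw [hK, relIndex, subgroupOf, comap_map_eq_self_of_injective (S : Subgroup G).subtype_injective]
    exact hCidx
  haveI := hCcyc
  have hKt : ∀ z ∈ C, orderOf (z : G) = 2 → (z : G) = t := by
    intro z hz hzo
    have hzS : ∀ s : (S : Subgroup G), s * z = z * s := by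
      intro s
      haveI : C.Normal := Subgroup.normal_of_index_eq_two hCidx
      have h1 : s * z * s⁻¹ ∈ C := Subgroup.Normal.conj_mem inferInstance z hz s
      have hzo' : orderOf z = 2 := by rwa [Subgroup.orderOf_coe] at hzo
      have h2 := CfsgLib.PSL2.eq_of_orderOf_two (G := C) (a := ⟨_, h1⟩) (b := ⟨z, hz⟩)
        (by rw [Subgroup.orderOf_mk, CfsgLib.Involutions.orderOf_conj_eq, hzo'])
        (by rw [Subgroup.orderOf_mk, hzo'])
      exact mul_inv_eq_iff_eq_mul.1 (congrArg Subtype.val h2)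
    have hzD : (z : G) ∈ L.D := L.cent (mem_centralizer_iff.2 fun d hd =>
      congrArg Subtype.val (hzS ⟨d, hDS hd⟩))
    have hzr : r * (z : G) * r⁻¹ = z :=
      mul_inv_eq_iff_eq_mul.2 (congrArg Subtype.val (hzS ⟨r, hrS⟩))
    rcases hall _ hzD with e | e | e | e
    · rw [e, orderOf_one] at hzo; omega
    · exact e
    · rw [e, hrt2] at hzr
      exact absurd (mul_eq_right.1 hzr) ht1
    · rw [e, hrt3] at hzr
      exact absurd (mul_eq_right.1 hzr.symm) ht1
  -- all involutions are conjugate to `t`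
  have hall2 : ∀ i : G, orderOf i = 2 → IsPGroup 2 (centralizer ({i} : Set G)) := by
    intro i hi
    by_cases hcl : ∀ g : G, g * i * g⁻¹ ∈ (S : Subgroup G) → g * i * g⁻¹ ∉ K
    · obtain ⟨N, hN, hNidx, hiN⟩ := CfsgLib.Transfer.thompson_transfer S K hKidx i
        (by rw [pow_two, CfsgLib.Involutions.mul_self_eq_one hi]) hcl
      exfalso
      rcases hN.eq_bot_or_eq_top with e | e
      · rw [e, index_bot] at hNidx
        have h3 : orderOf y ∣ Nat.card G := orderOf_dvd_natCard y
        rw [hNidx, show orderOf y = 3 from L.yord] at h3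
        omega
      · exact hiN (e ▸ mem_top _)
    · push Not at hcl
      obtain ⟨g, -, ⟨z, hz, e⟩⟩ := hcl
      have hzo : orderOf (z : G) = 2 := by
        rw [show (z : G) = g * i * g⁻¹ from e, CfsgLib.Involutions.orderOf_conj_eq, hi]
      have h1 : g * i * g⁻¹ = t := e.symm.trans (hKt z hz hzo)
      refine (hC.map (MulAut.conj g⁻¹).toMonoidHom).to_le fun m hm => ⟨g * m * g⁻¹, ?_, ?_⟩
      · refine mem_centralizer_singleton_iff.2 ?_
        have hm' := mem_centralizer_singleton_iff.1 hm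
        rw [← h1]
        calc g * m * g⁻¹ * (g * i * g⁻¹) = g * (m * i) * g⁻¹ := by group
          _ = g * (i * m) * g⁻¹ := by rw [hm']
          _ = _ := by group
      · show g⁻¹ * (g * m * g⁻¹) * (g⁻¹)⁻¹ = m
        group
  have hno : ∀ {a : ℕ} {q : G}, orderOf q ∣ 2 ^ a → q * y = y * q → q = 1 := by
    intro a q hq hc
    by_contra hq1
    exact hy1 (eq_one_of_commute_odd hq hq1 hyodd hc fun i hi _ => hall2 i hi)
  have hvM := L.vmem
  have hNy : normalizer (zpowers y : Set G) ≤ M := by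
    intro m hm
    obtain ⟨j, hj⟩ := h.exists_commute L.vord L.inv Nat.prime_three (by norm_num) (b := 1)
      (by rw [show orderOf y = 3 from L.yord, pow_one]) hy1 hm
    set w := y ^ j * m with hwdef
    have hm' : m = y ^ (-j) * w := by rw [hwdef]; group
    have hwC : w ∈ centralizer ({v} : Set G) := mem_centralizer_singleton_iff.2 hj
    obtain ⟨b, hb⟩ := isPGroup_orderOf (hall2 v L.vord) hwC
    have hwN : w ∈ normalizer (zpowers y : Set G) :=
      mul_mem (zpow_mem (le_normalizer (mem_zpowers y)) j) hm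
    have hw : w = 1 ∨ w = v := by
      obtain ⟨i, hi⟩ := mem_norm_zpowers.1 hwN
      dsimp only at hi
      have hy3 : y ^ (3 : ℤ) = 1 := by
        rw [show (3 : ℤ) = ((3 : ℕ) : ℤ) from rfl, zpow_natCast, ← L.yord]; exact pow_orderOf_eq_one y
      have hred : y ^ i = y ^ (i % 3) := by
        conv_lhs => rw [← Int.emod_add_mul_ediv i 3, zpow_add, zpow_mul, hy3, one_zpow, mul_one]
      have hcases : i % 3 = 0 ∨ i % 3 = 1 ∨ i % 3 = 2 := by omega
      rcases hcases with e | e | e <;> rw [e] at hred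
      · rw [zpow_zero] at hred
        exact absurd (conj_eq_one_iff.1 (hi.symm.trans hred)) hy1
      · rw [zpow_one] at hred
        exact Or.inl (hno hb (mul_inv_eq_iff_eq_mul.1 (hi.symm.trans hred)))
      · have hwy : w * y * w⁻¹ = y⁻¹ := by
          rw [← hi, hred]
          exact eq_inv_of_mul_eq_one_left (by
            rw [show y ^ (2 : ℤ) * y = y ^ (3 : ℤ) by group, hy3])
        have hwvC : w * v ∈ centralizer ({v} : Set G) :=
          mul_mem hwC (mem_centralizer_singleton_iff.2 rfl)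
        obtain ⟨b', hb'⟩ := isPGroup_orderOf (hall2 v L.vord) hwvC
        have h1 : w * v = 1 := hno hb' (mul_inv_eq_iff_eq_mul.1 (by
          calc w * v * y * (w * v)⁻¹ = w * (v * y * v⁻¹) * w⁻¹ := by group
            _ = (w * y * w⁻¹)⁻¹ := by rw [show v * y * v⁻¹ = y⁻¹ from L.inv]; group
            _ = y := by rw [hwy, inv_inv]))
        exact Or.inr ((mul_eq_one_iff_eq_inv.1 h1).trans
          (CfsgLib.Involutions.inv_eq_self_of_involution L.vord))
    rw [hm']
    rcases hw with e | e <;> rw [e]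
    · exact M.mul_mem (zpow_mem L.ymem _) M.one_mem
    · exact M.mul_mem (zpow_mem L.ymem _) hvM
  have hNyc := h (zpowers y) (zpowers_ne_bot.2 hy1) (twoPrime_zpowers_pow (a := 1) Nat.prime_three
    (by rw [show orderOf y = 3 from L.yord, pow_one]))
  have htN : t ∈ normalizer (zpowers y : Set G) := by
    rw [coatom_eq hNyc hMcoatom.1 hNy]; exact le_normalizer L.mem
  have h1 : t * y * t⁻¹ * y⁻¹ ∈ zpowers y := mul_mem (mem_norm_zpowers.1 htN) (inv_mem (mem_zpowers y))
  have h2 : t * y * t⁻¹ * y⁻¹ ∈ L.D := by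
    rw [show t * y * t⁻¹ * y⁻¹ = t * (y * t⁻¹ * y⁻¹) by group]
    exact mul_mem L.mem (hconj y L.ymem _ (inv_mem L.mem))
  obtain ⟨b, hb⟩ := isPGroup_orderOf (S.2.to_le hDS) h2
  have h3 := eq_one_of_two_odd hb hyodd (orderOf_dvd_of_mem_zpowers h1)
  refine ht1 (L.fpf t L.mem ?_)
  rw [mul_inv_eq_one, mul_inv_eq_iff_eq_mul] at h3
  rw [← h3, mul_inv_cancel_right]

end CfsgLib.MaxNorm
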