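import Cfsg.Agent.S0811
import Cfsg.Agent.S0812
import Cfsg.Agent.Lib.PSL2.Involution
import Cfsg.Agent.Lib.PSL2.Icosahedral
import Cfsg.Agent.Lib.MaxNorm.Four

/-!
`PSL₂(q)` with maximal normalizers of two-prime subgroups and involution centralizers of order `4r`
forces `q = 13`.
-/

set_option autoImplicit false
set_option linter.unusedSectionVars false

namespace CfsgLib.MaxNorm

open Subgroup Matrix

section

variable {F : Type*} [Field F] [Fintype F]

local notation "PSL" => ProjectiveSpecialLinearGroup (Fin 2) F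
local notation "SL2" => SpecialLinearGroup (Fin 2) F
local notation "M2" => Matrix (Fin 2) (Fin 2) F

/-- The field does not have characteristic three. -/
theorem not_three_dvd (h : NormMax PSL) (hq : 5 < Fintype.card F) : ¬ 3 ∣ Fintype.card F := by
  classical
  intro h3q
  obtain ⟨p, hp⟩ := CharP.exists F
  obtain ⟨k, hpp, hk⟩ := FiniteField.card F p
  have h3p : 3 = p := (Nat.prime_dvd_prime_iff_eq Nat.prime_three hpp).1
    (Nat.prime_three.dvd_of_dvd_pow (hk ▸ h3q))
  subst h3p
  have h2 : (2 : F) ≠ 0 := fun e => by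
    have := (CharP.cast_eq_zero_iff F 3 2).1 (by exact_mod_cast e)
    omega
  let U : SL2 := ⟨!![1, 1; 0, 1], by rw [Matrix.det_fin_two_of]; ring⟩
  set u : PSL := QuotientGroup.mk U with hu
  have hUpow : ∀ n : ℕ, ((U ^ n : SL2) : M2) = !![1, (n : F); 0, 1] := by
    intro n
    induction n with
    | zero => simp [Matrix.one_fin_two]
    | succ n ih =>
      rw [pow_succ, Matrix.SpecialLinearGroup.coe_mul, ih]
      simp [U, Matrix.mul_fin_two, add_comm]
  have hu3 : u ^ 3 = 1 := by
    rw [hu, ← QuotientGroup.mk_pow, QuotientGroup.eq_one_iff, show U ^ 3 = 1 from Subtype.ext (by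
      rw [hUpow, CharP.cast_eq_zero F 3]; simp [Matrix.one_fin_two])]
    exact one_mem _
  have hu1 : u ≠ 1 := by
    rw [hu, Ne, QuotientGroup.eq_one_iff, CfsgLib.SpecLin.SLTwo.mem_center_iff']
    rintro (e | e) <;>
      · have := congrFun (congrFun e 0) 1
        simp [U] at this
  -- the four entries of an element normalizing `⟨u⟩`
  have key : ∀ M : SL2, (QuotientGroup.mk M : PSL) ∈ normalizer (zpowers u : Set PSL) →
      ∃ n : ℕ, ∃ ε : F, (ε = 1 ∨ ε = -1) ∧ (M : M2) * !![1, 1; 0, 1] = ε • (!![1, (n : F); 0, 1] * (M : M2)) := by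
    intro M hM
    rw [mem_norm_zpowers, ← (isOfFinOrder_of_finite u).mem_powers_iff_mem_zpowers] at hM
    obtain ⟨n, hn⟩ := hM
    dsimp only at hn
    have h1 : (QuotientGroup.mk (U ^ n * M) : PSL) = QuotientGroup.mk (M * U) := by
      rw [QuotientGroup.mk_mul, QuotientGroup.mk_mul, QuotientGroup.mk_pow, ← hu, hn,
        inv_mul_cancel_right]
    have h1 := QuotientGroup.eq.1 h1
    obtain ⟨z, hz, e⟩ : ∃ z ∈ Subgroup.center SL2, M * U = U ^ n * M * z :=
      ⟨_, h1, (mul_inv_cancel_left _ _).symm⟩
    have e' := congrArg Subtype.val e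
    rw [Matrix.SpecialLinearGroup.coe_mul, Matrix.SpecialLinearGroup.coe_mul,
      Matrix.SpecialLinearGroup.coe_mul, hUpow] at e'
    change (M : M2) * !![1, 1; 0, 1] = _ at e'
    rcases CfsgLib.SpecLin.SLTwo.mem_center_iff'.1 hz with hz | hz
    · exact ⟨n, 1, Or.inl rfl, by rw [e', hz, Matrix.mul_one, one_smul]⟩
    · exact ⟨n, -1, Or.inr rfl, by rw [e', hz, Matrix.mul_neg, Matrix.mul_one, neg_one_smul]⟩
  -- the upper triangular subgroup
  let B : Subgroup SL2 :=
    { carrier := {M | (M : M2) 1 0 = 0}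
      one_mem' := by simp
      mul_mem' := fun {a b} (ha : (a : M2) 1 0 = 0) (hb : (b : M2) 1 0 = 0) => by
        show ((a * b : SL2) : M2) 1 0 = 0
        rw [Matrix.SpecialLinearGroup.coe_mul, Matrix.mul_apply, Fin.sum_univ_two, ha, hb, zero_mul,
          mul_zero, add_zero]
      inv_mem' := fun {a} (ha : (a : M2) 1 0 = 0) => by
        show ((a⁻¹ : SL2) : M2) 1 0 = 0
        rw [Matrix.SpecialLinearGroup.coe_inv, Matrix.adjugate_fin_two]
        simp [ha] }
  set B' : Subgroup PSL := B.map (QuotientGroup.mk' _) with hB'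
  have hB'top : B' ≠ ⊤ := by
    intro e
    let W : SL2 := ⟨!![0, -1; 1, 0], by rw [Matrix.det_fin_two_of]; ring⟩
    obtain ⟨M, hM, hMW⟩ := (e ▸ mem_top _ : (QuotientGroup.mk W : PSL) ∈ B')
    have h1 := QuotientGroup.eq.1 hMW
    have e1 : W = M * (M⁻¹ * W) := (mul_inv_cancel_left M W).symm
    have e2 := congrArg (fun A : SL2 => (A : M2) 1 0) e1
    simp only [Matrix.SpecialLinearGroup.coe_mul] at e2
    have hM' : (M : M2) 1 0 = 0 := hM
    rcases CfsgLib.SpecLin.SLTwo.mem_center_iff'.1 h1 with hz | hz <;>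
      rw [Matrix.SpecialLinearGroup.coe_mul] at hz <;> rw [hz] at e2 <;> simp [W, hM'] at e2
  have hle : normalizer (zpowers u : Set PSL) ≤ B' := by
    intro g hg
    obtain ⟨M, rfl⟩ := QuotientGroup.mk_surjective g
    refine ⟨M, ?_, rfl⟩
    obtain ⟨n, ε, hε, e⟩ := key M hg
    show (M : M2) 1 0 = 0
    have e11 := congrFun (congrFun e 1) 1
    simp [Matrix.mul_apply, Matrix.vecMul, dotProduct, Fin.sum_univ_two] at e11
    rcases hε with rfl | rfl
    · linear_combination e11
    · have e10 := congrFun (congrFun e 1) 0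
      simp [Matrix.mul_apply, Matrix.vecMul, dotProduct, Fin.sum_univ_two] at e10
      have : (2 : F) * (M : M2) 1 0 = 0 := by linear_combination e10
      exact (mul_eq_zero.1 this).resolve_left h2
  have heq := coatom_eq (h _ (zpowers_ne_bot.2 hu1)
    (twoPrime_zpowers_pow (a := 1) Nat.prime_three (by rw [pow_one]; exact orderOf_dvd_of_pow_eq_one hu3)))
    hB'top hle
  have hfour : ∀ a : Fˣ, a ^ 4 = 1 := by
    intro a
    let D : SL2 := ⟨!![(a : F), 0; 0, ((a⁻¹ : Fˣ) : F)], by rw [Matrix.det_fin_two_of]; simp⟩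
    obtain ⟨n, ε, hε, e⟩ := key D (heq ▸ ⟨D, show (D : M2) 1 0 = 0 by simp [D], rfl⟩)
    have e00 := congrFun (congrFun e 0) 0
    have e01 := congrFun (congrFun e 0) 1
    simp [D, Matrix.mul_apply, Fin.sum_univ_two] at e00 e01
    rcases hε with rfl | rfl
    · have h1 : (a : F) ^ 2 = n := by
        rw [one_mul] at e01
        rw [pow_two]; nth_rw 2 [e01]
        field_simp
      have h3 : (n : F) ^ 3 = n := by
        haveI : Fact (Nat.Prime 3) := ⟨Nat.prime_three⟩
        rw [← Nat.cast_pow, CharP.natCast_eq_natCast F 3]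
        have := Nat.pow_mod n 3 3
        rcases (by omega : n % 3 = 0 ∨ n % 3 = 1 ∨ n % 3 = 2) with e | e | e <;>
          simp [Nat.ModEq, this, e]
      have h4 : (a : F) ^ 2 * ((a : F) ^ 4 - 1) = 0 := by rw [← h1] at h3; linear_combination h3
      have h5 := (mul_eq_zero.1 h4).resolve_left (pow_ne_zero _ a.ne_zero)
      exact Units.ext (by rw [Units.val_pow_eq_pow_val, Units.val_one]; linear_combination h5)
    · exfalso
      exact h2 (by linear_combination -e00)
  obtain ⟨g, hg⟩ := IsCyclic.exists_ofOrder_eq_natCard (α := Fˣ)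
  have h5 := Nat.le_of_dvd (by norm_num) (hg ▸ orderOf_dvd_of_pow_eq_one (hfour g))
  rw [Nat.card_units, Nat.card_eq_fintype_card] at h5
  omega

/-- A maximal dihedral group of twice odd order divisible by three has order six. -/
theorem dihedral_bound {G : Type*} [Group G] [Finite G] (h : NormMax G) {H : Subgroup G} {m : ℕ}
    (hm2 : Odd m) (h3 : 3 ∣ m) (e : H ≃* DihedralGroup m) : m = 3 := by
  set f : DihedralGroup m →* G := H.subtype.comp e.symm.toMonoidHom
  have hf : Function.Injective f := H.subtype_injective.comp e.symm.injective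
  set c := f (DihedralGroup.r 1)
  set v := f (DihedralGroup.sr 0)
  have hc : orderOf c = m := by rw [orderOf_injective f hf, DihedralGroup.orderOf_r_one]
  have hv : orderOf v = 2 := by rw [orderOf_injective f hf, DihedralGroup.orderOf_sr]
  have hvv := CfsgLib.Involutions.mul_self_eq_one hv
  have hvc : v * c * v⁻¹ = c⁻¹ := by
    rw [← map_inv, ← map_inv, ← map_mul, ← map_mul]
    congr 1
    simp [DihedralGroup.inv_sr, DihedralGroup.sr_mul_r, DihedralGroup.sr_mul_sr, DihedralGroup.inv_r]
  obtain ⟨l, hl⟩ := h3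
  set y := c ^ l
  have hy : orderOf y = 3 := by
    rw [orderOf_pow, hc, hl, Nat.gcd_eq_right (Dvd.intro_left 3 rfl),
      Nat.mul_div_cancel _ (by rcases Nat.eq_zero_or_pos l with rfl | h0
                               · exact absurd hm2 (by rw [hl, mul_zero]; decide)
                               · exact h0)]
  have hy1 : y ≠ 1 := fun e1 => by rw [e1, orderOf_one] at hy; omega
  have hvy : v * y * v⁻¹ = y⁻¹ := by rw [← inv_pow, ← hvc, conj_pow]
  have hcN : c ∈ normalizer (zpowers y : Set G) :=
    centralizer_le_norm y (mem_centralizer_singleton_iff.2 ((Commute.refl c).pow_right l).eq)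
  obtain ⟨i, hi⟩ := h.conj_inverting hv hvy (b := 1) Nat.prime_three (by norm_num) (by rw [hy, pow_one]) hy1 hcN
  have hc2 : c ^ 2 = y ^ i := by
    have e1 : c * v * c⁻¹ = c ^ 2 * v := by
      calc c * v * c⁻¹ = c * (v * c * v⁻¹)⁻¹ * v := by
            rw [_root_.mul_inv_rev, _root_.mul_inv_rev, inv_inv]; group
        _ = c ^ 2 * v := by rw [hvc, inv_inv, pow_two]
    exact mul_right_cancel (e1.symm.trans hi)
  have h9 : orderOf (c ^ 2) ∣ 3 := hy ▸ orderOf_dvd_of_mem_zpowers ⟨i, hc2.symm⟩
  rw [orderOf_pow, hc, Nat.Coprime.gcd_eq_one ((Nat.coprime_two_right).2 hm2), Nat.div_one] at h9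
  rcases (Nat.dvd_prime Nat.prime_three).1 h9 with e1 | e1
  · omega
  · exact e1

/-- The points-fixing embedding of `A₄` in `A₅`. -/
theorem exists_alt_four_embedding : ∃ f : alternatingGroup (Fin 4) →* alternatingGroup (Fin 5),
    Function.Injective f := by
  let e : Fin 4 ≃ {x : Fin 5 // x ≠ Fin.last 4} := finSuccAboveEquiv (Fin.last 4)
  refine ⟨((Equiv.Perm.extendDomainHom e).comp (alternatingGroup (Fin 4)).subtype).codRestrict _
    fun a => ?_, ?_⟩
  · rw [Equiv.Perm.mem_alternatingGroup]
    exact (Equiv.Perm.sign_extendDomain (a : Equiv.Perm (Fin 4)) e).trans a.2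
  · intro a b hab
    exact Subtype.ext (Equiv.Perm.extendDomainHom_injective e (congrArg Subtype.val hab))

/-- The field has thirteen elements. -/
theorem card_eq_thirteen (h : NormMax PSL) (hodd : Odd (Fintype.card F)) {t : PSL} (ht : orderOf t = 2)
    (P : Sylow 2 PSL) {r : ℕ} (hr : r.Prime) (hr2 : r ≠ 2)
    (hC : Nat.card (centralizer ({t} : Set PSL)) = 4 * r) (hP : Nat.card (P : Subgroup PSL) = 4)
    (hN : Nat.card (normalizer ((P : Subgroup PSL) : Set PSL)) ≤ 12) : Fintype.card F = 13 := by
  classical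
  have hr3 : 3 ≤ r := by have := hr.two_le; omega
  rw [CfsgLib.PSL2.card_centralizer_involution hodd ht] at hC
  have hq11 : 11 ≤ Fintype.card F := by split_ifs at hC <;> omega
  have h3 := not_three_dvd h (by omega)
  have hgcd := CfsgLib.PSL2.gcd_eq_two hodd
  rcases eq_or_ne r 3 with rfl | hr3'
  · by_contra h13
    have hq : Fintype.card F = 11 := by split_ifs at hC <;> omega
    have h11 : (11 : F) = 0 := by
      have := Nat.cast_card_eq_zero F
      rw [hq] at this
      exact_mod_cast this
    obtain ⟨f, hf⟩ := CfsgLib.PSL2.exists_alt_five_psl (r := (3 : F)) (by linear_combination h11)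
    have hK : Nat.card f.range = 60 := by
      rw [← Nat.card_congr (MonoidHom.ofInjective hf).toEquiv, nat_card_alternatingGroup, Nat.card_fin]
      rfl
    have htop : f.range ≠ ⊤ := by
      intro e
      have h1 := CfsgLib.PSL2.card_psl (F := F)
      rw [hgcd, hq, ← card_top (G := PSL), ← e, hK] at h1
      norm_num at h1
    obtain ⟨g4, hg4⟩ := exists_alt_four_embedding
    set g := f.comp g4 with hg
    have hginj : Function.Injective g := hf.comp hg4
    set V := (alternatingGroup.kleinFour (Fin 4)).map g with hV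
    have hVc : Nat.card V = 4 := by
      rw [hV, card_map_of_injective hginj, alternatingGroup.kleinFour_card_of_card_eq_four (by simp)]
    haveI : Fact (Nat.Prime 2) := ⟨Nat.prime_two⟩
    obtain ⟨Q, hQ⟩ := (IsPGroup.of_card (p := 2) (n := 2) hVc).exists_le_sylow
    have hQc : Nat.card (Q : Subgroup PSL) = 4 := by
      rw [Q.card_eq_multiplicity, ← P.card_eq_multiplicity, hP]
    have hQV : V = (Q : Subgroup PSL) := eq_of_le_of_card_ge hQ (by rw [hQc, hVc])
    have hNV : Nat.card (normalizer (V : Set PSL)) ≤ 12 := by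
      obtain ⟨a, ha⟩ := MulAction.exists_smul_eq PSL P Q
      rw [hQV, ← ha, Sylow.coe_subgroup_smul]
      change Nat.card (normalizer (((P : Subgroup PSL).map (MulAut.conj a).toMonoidHom : Subgroup PSL) : Set PSL)) ≤ 12
      rw [← map_normalizer_eq_of_bijective _ (MulAut.conj a).bijective,
        card_map_of_injective (MulAut.conj a).injective]
      exact hN
    haveI := alternatingGroup.normal_kleinFour (α := Fin 4) (by simp)
    have hle : g.range ≤ normalizer (V : Set PSL) := by
      rw [MonoidHom.range_eq_map, ← normalizer_eq_top (alternatingGroup.kleinFour (Fin 4))]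
      exact le_normalizer_map g
    have heq : g.range = normalizer (V : Set PSL) := by
      refine eq_of_le_of_card_ge hle (hNV.trans ?_)
      rw [← Nat.card_congr (MonoidHom.ofInjective hginj).toEquiv, nat_card_alternatingGroup, Nat.card_fin]
      rfl
    have hVne : V ≠ ⊥ := fun e => by rw [e, card_bot] at hVc; omega
    have hgK : g.range ≤ f.range := by rw [hg, MonoidHom.range_comp]; exact map_le_range f _
    have := coatom_eq (h V hVne (TwoPrime.of_isPGroup (IsPGroup.of_card (p := 2) (n := 2) hVc))) htop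
      (heq ▸ hgK)
    rw [this, hK] at hNV
    omega
  · exfalso
    have hr5 : 5 ≤ r := by
      rcases Nat.lt_or_ge r 5 with h5 | h5
      · interval_cases r <;> norm_num at *
      · exact h5
    have h3r : ¬ 3 ∣ r := fun e => hr3' ((Nat.prime_dvd_prime_iff_eq Nat.prime_three hr).1 e).symm
    split_ifs at hC with h4
    · obtain ⟨H, -, ⟨e⟩⟩ := Cfsg.Agent.S0811.result (F := F) rfl
        (by simp only [Finset.mem_insert, Finset.mem_singleton]; omega)
      rw [hgcd] at e
      have hm : (Fintype.card F + 1) / 2 = 2 * r + 1 := by omega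
      rw [hm] at e
      have h31 : r % 3 = 1 := by omega
      have := dihedral_bound h ⟨r, rfl⟩ (by omega) e
      omega
    · obtain ⟨H, -, ⟨e⟩⟩ := Cfsg.Agent.S0812.result (F := F) rfl
        (by simp only [Finset.mem_insert, Finset.mem_singleton]; omega)
      rw [hgcd] at e
      have hm : (Fintype.card F - 1) / 2 = 2 * (r - 1) + 1 := by omega
      rw [hm] at e
      have h32 : r % 3 = 2 := by omega
      have := dihedral_bound h ⟨r - 1, rfl⟩ (by omega) e
      omega

end

end CfsgLib.MaxNorm
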