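import Cfsg.Agent.S0144
import Cfsg.Agent.Lib.PF.OddOrder
import Cfsg.Agent.Lib.Hall.Pi
import Cfsg.Agent.Lib.Structure.SolvableRadical
import Cfsg.Agent.Lib.OddOrder.PuigSeries
import Cfsg.Agent.Lib.MaxNorm.NoTwo
import Cfsg.Agent.Lib.MaxNorm.Thirteen

/-!
The quotient by the solvable radical of a group with maximal normalizers is `PSL₂(13)`.
-/

set_option autoImplicit false
set_option linter.unusedSectionVars false

namespace CfsgLib.MaxNorm

open Subgroup

universe u

variable {G : Type u} [Group G] [Finite G]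

/-- Every two-prime subgroup that is not subnormal has a maximal normalizer. -/
def NonSubnormalMax (G : Type u) [Group G] : Prop :=
  ∀ H : Subgroup G, ¬ H.IsSubnormal → TwoPrime H → IsCoatom (normalizer (H : Set G))

theorem TwoPrime.isSolvable {H : Subgroup G} (h : TwoPrime H) : Group.IsSolvable H := by
  obtain ⟨p, q, hp, hq, hpq⟩ := h
  obtain ⟨a, m, hm, he⟩ := Nat.exists_eq_pow_mul_and_not_dvd (Nat.card_pos (α := H)).ne' p hp.ne_one
  have hm0 : m ≠ 0 := fun e => hm (e ▸ dvd_zero p)
  have hmq : m = q ^ m.primeFactorsList.length :=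
    Nat.eq_prime_pow_of_unique_prime_dvd hm0 fun {d} hd hdd =>
      (hpq d hd (he ▸ hdd.mul_left _)).resolve_left fun e => hm (e ▸ hdd)
  rw [hmq] at he
  exact Cfsg.Agent.S0144.result p q a _ hp hq he

theorem TwoPrime.map {K : Type*} [Group K] (f : G →* K) {H : Subgroup G} (h : TwoPrime H) :
    TwoPrime (H.map f) := by
  obtain ⟨p, q, hp, hq, hpq⟩ := h
  exact ⟨p, q, hp, hq, fun r hr hd => hpq r hr (hd.trans (Subgroup.card_map_dvd H f))⟩

section Equiv

variable {K : Type*} [Group K] [Finite K]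

theorem NormMax.congr (h : NormMax G) (e : G ≃* K) : NormMax K := by
  intro H hH hH2
  have hc : (H.map e.symm.toMonoidHom).map e.toMonoidHom = H := by
    rw [map_map, show e.toMonoidHom.comp e.symm.toMonoidHom = MonoidHom.id K from
      MonoidHom.ext e.apply_symm_apply, map_id]
  have h1 := h (H.map e.symm.toMonoidHom) (fun e1 => hH (by rw [← hc, e1, Subgroup.map_bot]))
    (hH2.map _)
  have h2 := OrderIso.isCoatom_iff (MulEquiv.mapSubgroup e) _ |>.2 h1
  change IsCoatom ((normalizer _).map e.toMonoidHom) at h2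
  rwa [map_equiv_normalizer_eq, hc] at h2

theorem card_centralizer_map (e : G ≃* K) (t : G) :
    Nat.card (centralizer ({e t} : Set K)) = Nat.card (centralizer ({t} : Set G)) := by
  refine (Nat.card_congr (e.toEquiv.subtypeEquiv fun a => ?_)).symm
  simp only [mem_centralizer_singleton_iff, MulEquiv.toEquiv_eq_coe, MulEquiv.coe_toEquiv, ← map_mul,
    EmbeddingLike.apply_eq_iff_eq]

theorem card_eq_thirteen_of_equiv {F : Type} [Field F] [Fintype F] (hodd : Odd (Fintype.card F))
    (e : G ≃* Matrix.ProjectiveSpecialLinearGroup (Fin 2) F) (h : NormMax G) {t : G} (ht : orderOf t = 2)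
    (P : Sylow 2 G) {r : ℕ} (hr : r.Prime) (hr2 : r ≠ 2)
    (hC : Nat.card (centralizer ({t} : Set G)) = 4 * r) (hP : Nat.card (P : Subgroup G) = 4)
    (hN : Nat.card (normalizer ((P : Subgroup G) : Set G)) ≤ 12) : Fintype.card F = 13 := by
  haveI : Fact (Nat.Prime 2) := ⟨Nat.prime_two⟩
  set V := (P : Subgroup G).map e.toMonoidHom with hV
  obtain ⟨Q, hQ⟩ := (P.2.map e.toMonoidHom).exists_le_sylow
  have hVc : Nat.card V = Nat.card (P : Subgroup G) := card_map_of_injective e.injective
  have hQV : V = (Q : Subgroup _) := eq_of_le_of_card_ge hQ (by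
    rw [hVc, Q.card_eq_multiplicity, P.card_eq_multiplicity, Nat.card_congr e.toEquiv])
  refine card_eq_thirteen (h.congr e) hodd (t := e t) ((orderOf_injective e.toMonoidHom e.injective t).trans ht)
    Q hr hr2 (by rw [card_centralizer_map, hC]) (by rw [← hQV, hVc, hP]) ?_
  rw [← hQV, hV, ← map_equiv_normalizer_eq, card_map_of_injective e.injective]
  exact hN

end Equiv

/-- Isomorphic fields give isomorphic projective special linear groups. -/
theorem psl_congr {F K : Type} [Field F] [Field K] (e : F ≃+* K) :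
    Nonempty (Matrix.ProjectiveSpecialLinearGroup (Fin 2) F ≃* Matrix.ProjectiveSpecialLinearGroup (Fin 2) K) := by
  let f : Matrix.SpecialLinearGroup (Fin 2) F →* Matrix.SpecialLinearGroup (Fin 2) K :=
    Matrix.SpecialLinearGroup.map e.toRingHom
  let g : Matrix.SpecialLinearGroup (Fin 2) K →* Matrix.SpecialLinearGroup (Fin 2) F :=
    Matrix.SpecialLinearGroup.map e.symm.toRingHom
  let E : Matrix.SpecialLinearGroup (Fin 2) F ≃* Matrix.SpecialLinearGroup (Fin 2) K :=
    MonoidHom.toMulEquiv f g (by ext; simp [f, g]) (by ext; simp [f, g])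
  refine ⟨QuotientGroup.congr _ _ E ?_⟩
  ext x
  simp only [Subgroup.mem_map, Subgroup.mem_center_iff]
  constructor
  · rintro ⟨y, hy, rfl⟩ z
    obtain ⟨w, rfl⟩ := E.surjective z
    simp only [MulEquiv.coe_toMonoidHom, MonoidHom.coe_coe, ← map_mul, hy]
  · intro hx
    refine ⟨E.symm x, fun z => E.injective ?_, E.apply_symm_apply x⟩
    simp only [map_mul, E.apply_symm_apply, hx]

theorem NonSubnormalMax.norm_eq_comap (h : NonSubnormalMax G) [(Cfsg.solvableRadical G).Normal]
    {H : Subgroup G} (hH : TwoPrime H) (hle : ¬ H ≤ Cfsg.solvableRadical G) :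
    normalizer (H : Set G) =
      (normalizer ((H.map (QuotientGroup.mk' (Cfsg.solvableRadical G))) : Set (G ⧸ Cfsg.solvableRadical G))).comap
        (QuotientGroup.mk' _) := by
  set π := QuotientGroup.mk' (Cfsg.solvableRadical G)
  haveI := hH.isSolvable
  have hne : H.map π ≠ ⊥ := fun e => hle (by
    rwa [Subgroup.map_eq_bot_iff, QuotientGroup.ker_mk'] at e)
  refine coatom_eq (h H (fun hs => hle (CfsgLib.Structure.le_solvableRadical_of_isSubnormal hs hH.isSolvable)) hH)
    (fun e => ?_) (map_le_iff_le_comap.1 (le_normalizer_map π))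
  have e' : normalizer ((H.map π) : Set (G ⧸ Cfsg.solvableRadical G)) = ⊤ := by
    rw [← map_comap_eq_self_of_surjective (f := π) (QuotientGroup.mk'_surjective _) (normalizer _), e,
      map_top_of_surjective π (QuotientGroup.mk'_surjective _)]
  refine hne (eq_bot_iff.2 ((CfsgLib.Structure.le_solvableRadical (normalizer_eq_top_iff.1 e')
    (Group.isSolvable_of_surjective (MonoidHom.subgroupMap_surjective π H))).trans_eq ?_))
  exact CfsgLib.Structure.solvableRadical_quotient

theorem NonSubnormalMax.radical_le_norm (h : NonSubnormalMax G)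
    {H : Subgroup G} (hH : TwoPrime H) (hle : ¬ H ≤ Cfsg.solvableRadical G) :
    Cfsg.solvableRadical G ≤ normalizer (H : Set G) := by
  haveI := CfsgLib.Structure.solvableRadical_normal (G := G)
  rw [h.norm_eq_comap hH hle]
  intro a ha
  rw [Subgroup.mem_comap, QuotientGroup.mk'_apply, (QuotientGroup.eq_one_iff a).2 ha]
  exact one_mem _

theorem NonSubnormalMax.normMax_quotient (h : NonSubnormalMax G) [(Cfsg.solvableRadical G).Normal] :
    NormMax (G ⧸ Cfsg.solvableRadical G) := by
  intro K hK hK2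
  set R := Cfsg.solvableRadical G
  set π := QuotientGroup.mk' R
  have hs : Function.Surjective π := QuotientGroup.mk'_surjective R
  set A := K.comap π
  let f : A →* K := π.subgroupComap K
  have hf : Function.Surjective f := π.subgroupComap_surjective_of_surjective K hs
  haveI : Group.IsSolvable f.ker := by
    haveI : Group.IsSolvable R := CfsgLib.Structure.isSolvable_solvableRadical
    refine Group.isSolvable_of_isSolvable_injective
      (f := (A.subtype.comp f.ker.subtype).codRestrict R fun a => ?_) fun a b hab => ?_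
    · exact (QuotientGroup.eq_one_iff ((a : A) : G)).1 (congrArg Subtype.val a.2)
    · exact Subtype.ext (Subtype.ext (congrArg (fun z : R => (z : G)) hab))
  haveI : Group.IsSolvable A := by
    haveI := hK2.isSolvable
    exact Group.isSolvable_of_ker_le_range f.ker.subtype f (by rw [range_subtype])
  obtain ⟨p, q, hp, hq, hpq⟩ := id hK2
  obtain ⟨H, hH⟩ := CfsgLib.Hall.exists_isPiHall (G := A) {p, q}
  have htop : H.map f = ⊤ := by
    rw [← index_eq_one]
    by_contra h1
    obtain ⟨d, hd, hdd⟩ := Nat.exists_prime_and_dvd h1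
    exact hH.2 d hd (hpq d hd (hdd.trans (index_dvd_card _))) (hdd.trans (index_map_dvd H hf))
  have hmap : (H.map A.subtype).map π = K := by
    rw [map_map, show π.comp A.subtype = K.subtype.comp f from rfl, ← map_map, htop, ← MonoidHom.range_eq_map,
      range_subtype]
  have hH2 : TwoPrime (H.map A.subtype) := TwoPrime.map _ ⟨p, q, hp, hq, hH.1⟩
  have hle : ¬ H.map A.subtype ≤ R := fun hle => hK (by
    rw [← hmap, Subgroup.map_eq_bot_iff, QuotientGroup.ker_mk']; exact hle)
  have hns : ¬ (H.map A.subtype).IsSubnormal := fun hsn =>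
    hle (CfsgLib.Structure.le_solvableRadical_of_isSubnormal hsn hH2.isSolvable)
  have h1 := h _ hns hH2
  rw [h.norm_eq_comap hH2 hle, hmap] at h1
  refine ⟨fun e => h1.1 (by rw [e, comap_top]), fun L hL => ?_⟩
  exact comap_injective hs ((h1.2 _ ((comap_lt_comap_of_surjective hs).2 hL)).trans (comap_top _).symm)

variable {Q : Type u} [Group Q] [Finite Q]

/-- Without solvable radical, two commuting nontrivial subnormal subgroups cannot both occur. -/
theorem no_commuting_subnormal (h : NormMax Q) (hR : Cfsg.solvableRadical Q = ⊥) {A B : Subgroup Q}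
    (hA : A ≠ ⊥) (hBs : B.IsSubnormal) (hB : B ≠ ⊥) (hc : ∀ a ∈ A, ∀ b ∈ B, a * b = b * a) : False := by
  have hsol : ∀ C : Subgroup Q, C.IsSubnormal → Group.IsSolvable C → C = ⊥ := fun C h1 h2 =>
    eq_bot_iff.2 ((CfsgLib.Structure.le_solvableRadical_of_isSubnormal h1 h2).trans_eq hR)
  have hA1 : Nat.card A ≠ 1 := fun e => hA (card_eq_one.1 e)
  obtain ⟨p, hp, hpA⟩ := Nat.exists_prime_and_dvd hA1
  haveI := Fact.mk hp
  obtain ⟨⟨x, hxA⟩, hx⟩ := exists_prime_orderOf_dvd_card' p hpA
  rw [Subgroup.orderOf_mk] at hx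
  obtain ⟨q, hq, hqp, hqB⟩ : ∃ q : ℕ, q.Prime ∧ q ≠ p ∧ q ∣ Nat.card B := by
    by_contra hno
    push Not at hno
    haveI := (IsPGroup.of_card (n := (Nat.card B).primeFactorsList.length)
      (Nat.eq_prime_pow_of_unique_prime_dvd Nat.card_pos.ne' fun {d} hd hdd => by
        by_contra hdp; exact hno d hd hdp hdd) : IsPGroup p B).isNilpotent
    exact hB (hsol B hBs inferInstance)
  haveI := Fact.mk hq
  obtain ⟨⟨y, hyB⟩, hy⟩ := exists_prime_orderOf_dvd_card' q hqB
  rw [Subgroup.orderOf_mk] at hy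
  have hy1 : y ≠ 1 := fun e => hq.one_lt.ne' (by rw [← hy, e, orderOf_one])
  have hx1 : x ≠ 1 := fun e => hp.one_lt.ne' (by rw [← hx, e, orderOf_one])
  have e := h.norm_commute (a := 1) (b := 1) (hc x hxA y hyB) hp hq (by rw [hx, pow_one])
    (by rw [hy, pow_one]) hqp.symm hx1 hy1
  have hBN : B ≤ normalizer (zpowers y : Set Q) := fun b hb =>
    e ▸ centralizer_le_norm x (mem_centralizer_singleton_iff.2 (hc x hxA b hb).symm)
  have hle : zpowers y ≤ B := zpowers_le.2 hyB
  have hn : ((zpowers y).subgroupOf B).Normal := (normal_subgroupOf_iff_le_normalizer hle).2 hBN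
  have := hsol (zpowers y) (IsSubnormal.step _ B hle hBs hn) inferInstance
  exact hy1 (zpowers_eq_bot.1 this)

/-- A simple normal subgroup with trivial centralizer. -/
theorem exists_simple_socle (h : NormMax Q) (hR : Cfsg.solvableRadical Q = ⊥) (hQ : ¬ Group.IsSolvable Q) :
    ∃ T : Subgroup Q, T.Normal ∧ IsSimpleGroup T ∧ centralizer (T : Set Q) = ⊥ := by
  have htop : (⊤ : Subgroup Q) ≠ ⊥ := fun e => hQ (by
    haveI : Subsingleton Q := ⟨fun a b =>
      (mem_bot.1 (e ▸ mem_top a)).trans (mem_bot.1 (e ▸ mem_top b)).symm⟩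
    infer_instance)
  obtain ⟨N, hN⟩ := ({N : Subgroup Q | N.Normal ∧ N ≠ ⊥}).toFinite.exists_minimal ⟨⊤, inferInstance, htop⟩
  haveI := hN.prop.1
  have hCN : centralizer (N : Set Q) = ⊥ := by
    by_contra hC
    exact no_commuting_subnormal h hR hN.prop.2 (inferInstance : (centralizer (N : Set Q)).Normal).isSubnormal
      hC fun a ha b hb => mem_centralizer_iff.1 hb a ha
  refine ⟨N, inferInstance, ?_, hCN⟩
  have hsub : ∀ K : Subgroup N, K.Normal → (K.map N.subtype).IsSubnormal := fun K hK =>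
    IsSubnormal.step _ N (map_subtype_le K) hN.prop.1.isSubnormal
      (by rw [subgroupOf, comap_map_eq_self_of_injective N.subtype_injective]; exact hK)
  haveI : Nontrivial N := (Subgroup.nontrivial_iff_ne_bot N).2 hN.prop.2
  obtain ⟨T, hT⟩ := ({T : Subgroup N | T.Normal ∧ T ≠ ⊥}).toFinite.exists_minimal
    ⟨⊤, inferInstance, top_ne_bot⟩
  haveI := hT.prop.1
  have hTne : T.map N.subtype ≠ ⊥ := fun e =>
    hT.prop.2 ((map_eq_bot_iff_of_injective T N.subtype_injective).1 e)
  have hTtop : T = ⊤ := by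
    by_contra hTt
    obtain ⟨g, hg⟩ : ∃ g : Q, T.map (MulAut.conjNormal g).toMonoidHom ≠ T := by
      by_contra hall
      push Not at hall
      have hn : (T.map N.subtype).Normal := ⟨fun a ha g => by
        obtain ⟨b, hb, rfl⟩ := ha
        refine ⟨MulAut.conjNormal g b, ?_, MulAut.conjNormal_apply g b⟩
        rw [← hall g]
        exact Subgroup.mem_map_of_mem _ hb⟩
      have he : N ≤ T.map N.subtype := hN.le_of_le ⟨hn, hTne⟩ (map_subtype_le T)
      exact hTt (eq_top_iff.2 fun a _ => by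
        obtain ⟨b, hb, e⟩ := he a.2
        rwa [Subtype.ext e] at hb)
    set T2 := T.map (MulAut.conjNormal g).toMonoidHom
    haveI : T2.Normal := hT.prop.1.map _ (MulAut.conjNormal g).surjective
    have hd : T ⊓ T2 = ⊥ := by
      by_contra hd
      have h1 : T ≤ T2 := (hT.le_of_le ⟨inferInstance, hd⟩ inf_le_left).trans inf_le_right
      exact hg (eq_of_le_of_card_ge h1 (card_map_of_injective (MulAut.conjNormal g).injective).le).symm
    refine no_commuting_subnormal h hR hTne (hsub T2 inferInstance) (fun e => ?_) ?_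
    · exact hT.prop.2 ((map_eq_bot_iff_of_injective T (MulAut.conjNormal g).injective).1
        ((map_eq_bot_iff_of_injective T2 N.subtype_injective).1 e))
    · rintro _ ⟨a, ha, rfl⟩ _ ⟨b, hb, rfl⟩
      exact congrArg Subtype.val
        (commute_of_normal_of_disjoint T T2 inferInstance inferInstance (disjoint_iff.2 hd) a b ha hb).eq
  refine ⟨fun K hK => or_iff_not_imp_left.2 fun hne => ?_⟩
  exact eq_top_iff.2 (hTtop ▸ hT.le_of_le ⟨hK, hne⟩ (hTtop ▸ le_top))

/-- The group without solvable radical is `PSL₂(13)`. -/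
theorem equiv_psl_thirteen (h : NormMax Q) (hR : Cfsg.solvableRadical Q = ⊥) (hQ : ¬ Group.IsSolvable Q) :
    IsSimpleGroup Q ∧ Nonempty (Q ≃* Matrix.ProjectiveSpecialLinearGroup (Fin 2) (ZMod 13)) := by
  haveI : Fact (Nat.Prime 2) := ⟨Nat.prime_two⟩
  obtain ⟨T, hTn, hsimple, hCT⟩ := exists_simple_socle h hR hQ
  haveI := hTn
  have hT2 : 2 ∣ Nat.card T := by
    by_contra h2
    haveI := hsimple
    have hsol : Group.IsSolvable T :=
      CfsgLib.PF.oddSolvable T (Nat.not_even_iff_odd.1 fun e => h2 (even_iff_two_dvd.1 e))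
    have hb : T ≤ ⊥ := hR ▸ CfsgLib.Structure.le_solvableRadical hTn hsol
    exact not_subsingleton T ⟨fun a b => Subtype.ext ((mem_bot.1 (hb a.2)).trans (mem_bot.1 (hb b.2)).symm)⟩
  obtain ⟨⟨t0, ht0T⟩, ht0⟩ := exists_prime_orderOf_dvd_card' 2 hT2
  rw [Subgroup.orderOf_mk] at ht0
  obtain ⟨S, hS⟩ := (IsPGroup.of_card (p := 2) (n := 1) (G := zpowers t0)
    (by rw [Nat.card_zpowers, ht0, pow_one])).exists_le_sylow
  haveI := S.2.isNilpotent
  set C := T.subgroupOf (S : Subgroup Q)
  have hC : C ≠ ⊥ := fun e => CfsgLib.Involutions.ne_one_of_involution ht0 (by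
    have hm : (⟨t0, hS (mem_zpowers t0)⟩ : (S : Subgroup Q)) ∈ C := mem_subgroupOf.2 ht0T
    rw [e, mem_bot] at hm
    exact congrArg Subtype.val hm)
  obtain ⟨z, hz, hz1⟩ := (Subgroup.ne_bot_iff_exists_ne_one).1 (CfsgLib.OddOrder.PuigSeries.inf_center_ne_bot C hC) |>
    fun ⟨a, ha⟩ => (⟨a.1, a.2, fun e => ha (Subtype.ext e)⟩ :
      ∃ z : (S : Subgroup Q), z ∈ center (S : Subgroup Q) ⊓ C ∧ z ≠ 1)
  obtain ⟨a, ha⟩ := isPGroup_orderOf S.2 z.2
  obtain ⟨k, hk⟩ := exists_involution_pow ha fun e => hz1 (Subtype.ext e)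
  set t := (z : Q) ^ k with ht
  have htS : t ∈ S := pow_mem z.2 k
  have htT : t ∈ T := pow_mem (mem_subgroupOf.1 hz.2) k
  have htZ : ∀ s ∈ (S : Subgroup Q), s * t = t * s := fun s hs =>
    (show Commute s (z : Q) from congrArg Subtype.val (mem_center_iff.1 hz.1 ⟨s, hs⟩)).pow_right k |>.eq
  by_cases hC2 : IsPGroup 2 (centralizer ({t} : Set Q))
  · exact (false_of_two_centralizer h hsimple hCT S hk htT htS htZ hC2).elim
  obtain ⟨hsimp, ⟨F, hF, hFf, hodd, ⟨e⟩⟩, t', P, r, ht', hr, hr2, hC4, hP, hN⟩ :=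
    kleinCase_of_not_two h hsimple hCT S hk htT htS htZ hC2
  refine ⟨hsimp, ?_⟩
  have h13 := card_eq_thirteen_of_equiv hodd e h ht' P hr hr2 hC4 hP hN
  haveI : Fact (Nat.Prime 13) := ⟨by norm_num⟩
  obtain ⟨e'⟩ := psl_congr (ZMod.ringEquivOfPrime F (by norm_num) h13).symm
  exact ⟨e.trans e'⟩

theorem NonSubnormalMax.quotient_psl (h : NonSubnormalMax G) (hG : ¬ Group.IsSolvable G)
    [(Cfsg.solvableRadical G).Normal] :
    IsSimpleGroup (G ⧸ Cfsg.solvableRadical G) ∧
      Nonempty (G ⧸ Cfsg.solvableRadical G ≃* Matrix.ProjectiveSpecialLinearGroup (Fin 2) (ZMod 13)) := by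
  refine equiv_psl_thirteen h.normMax_quotient CfsgLib.Structure.solvableRadical_quotient fun hs => hG ?_
  haveI := hs
  haveI : Group.IsSolvable (Cfsg.solvableRadical G) := CfsgLib.Structure.isSolvable_solvableRadical
  exact Group.isSolvable_of_ker_le_range (Cfsg.solvableRadical G).subtype
    (QuotientGroup.mk' (Cfsg.solvableRadical G)) (by rw [QuotientGroup.ker_mk', range_subtype])

end CfsgLib.MaxNorm
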