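import Cfsg.Agent.Lib.MaxNorm.Radical
import Cfsg.Agent.Lib.CTwoAbelian.Cover
import Cfsg.Agent.Lib.SpecLin.SLTwoClassSize
import Cfsg.Agent.Lib.H82.Hamiltonian

/-!
A group whose quotient by the solvable radical is `PSL₂(13)`, with maximal normalizers, splits as a cover
of `PSL₂(13)` times an abelian group of coprime order.
-/

set_option autoImplicit false
set_option linter.unusedSectionVars false

namespace CfsgLib.MaxNorm

open Subgroup

universe u

variable {G : Type u} [Group G] [Finite G]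

/-- An element of a normal subgroup normalizing a cyclic subgroup of coprime prime power order outside it. -/
theorem commute_of_normalizes {N : Subgroup G} [N.Normal] {a x : G} {r b : ℕ} (hr : r.Prime)
    (hx : orderOf x ∣ r ^ b) (ha : a ∈ N) (hxN : x ∉ N) (hn : a * x * a⁻¹ ∈ zpowers x)
    (hco : (orderOf a).Coprime r) : Commute a x := by
  obtain ⟨i, hi⟩ := hn
  dsimp only at hi
  have hN : x ^ (i - 1) ∈ N := by
    rw [zpow_sub_one, hi, show a * x * a⁻¹ * x⁻¹ = a * (x * a⁻¹ * x⁻¹) by group]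
    exact N.mul_mem ha ((inferInstance : N.Normal).conj_mem _ (N.inv_mem ha) x)
  have hdvd : (r : ℤ) ∣ i - 1 := by
    by_contra hnd
    have hcop : IsCoprime (i - 1) ((r : ℤ) ^ b) :=
      (((Nat.prime_iff_prime_int.1 hr).coprime_iff_not_dvd.2 hnd).pow_left).symm
    obtain ⟨c, d, hcd⟩ := hcop
    refine hxN ?_
    have h1 : x ^ ((r : ℤ) ^ b) = 1 := by
      rw [← orderOf_dvd_iff_zpow_eq_one]; exact_mod_cast hx
    have e : x = (x ^ (i - 1)) ^ c := by
      rw [← _root_.zpow_mul, show (i - 1) * c = 1 - (r : ℤ) ^ b * d by linear_combination hcd, _root_.zpow_sub,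
        _root_.zpow_mul x _ d, h1, _root_.one_zpow, inv_one, mul_one, zpow_one]
    rw [e]
    exact N.zpow_mem hN c
  have hiter : ∀ n : ℕ, a ^ n * x * (a ^ n)⁻¹ = x ^ (i ^ n) := by
    intro n
    induction n with
    | zero => simp
    | succ n ih =>
      calc a ^ (n + 1) * x * (a ^ (n + 1))⁻¹ = a * (a ^ n * x * (a ^ n)⁻¹) * a⁻¹ := by
            rw [pow_succ']; group
        _ = (a * x * a⁻¹) ^ (i ^ n) := by rw [ih, conj_zpow]
        _ = x ^ (i ^ (n + 1)) := by rw [← hi, ← _root_.zpow_mul, pow_succ']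
  have hfix : Commute (a ^ r ^ b) x := by
    refine mul_inv_eq_iff_eq_mul.1 ?_
    rw [hiter]
    have h1 : (orderOf x : ℤ) ∣ i ^ r ^ b - 1 := by
      refine (Int.natCast_dvd_natCast.2 (hx.trans (pow_dvd_pow r (Nat.le_succ b)))).trans ?_
      have h2 := dvd_sub_pow_of_dvd_sub hdvd b
      rw [one_pow] at h2
      exact_mod_cast h2
    obtain ⟨c, hc⟩ := h1
    rw [show i ^ r ^ b = (orderOf x : ℤ) * c + 1 by linear_combination hc, zpow_add_one, _root_.zpow_mul,
      zpow_natCast, pow_orderOf_eq_one, _root_.one_zpow, one_mul]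
  obtain ⟨n, hn⟩ := exists_pow_eq_self_of_coprime (Nat.Coprime.pow_left b hco.symm)
  rw [← hn]
  exact hfix.pow_left n

/-- The prime power parts of an element. -/
theorem exists_prime_part {g : G} {p : ℕ} (hp : p.Prime) :
    ∃ m j : ℕ, ¬ p ∣ m ∧ orderOf (g ^ m) = p ^ j ∧ orderOf g = p ^ j * m := by
  obtain ⟨j, m, hm, he⟩ := Nat.exists_eq_pow_mul_and_not_dvd (orderOf_pos g).ne' p hp.ne_one
  refine ⟨m, j, hm, ?_, he⟩
  rw [orderOf_pow, he, Nat.gcd_eq_right (Dvd.intro_left _ rfl),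
    Nat.mul_div_cancel]
  exact Nat.pos_of_ne_zero fun e => hm (by simp [e])

local notation "SL13" => Matrix.SpecialLinearGroup (Fin 2) (ZMod 13)
local notation "PSL13" => Matrix.ProjectiveSpecialLinearGroup (Fin 2) (ZMod 13)

/-- The special linear group of a quotient in the setting of the statement. -/
structure Cover (G : Type u) [Group G] where
  /-- the perfect normal subgroup -/
  K : Subgroup G
  /-- the covering map -/
  θ : SL13 →* G
  normal : K.Normal
  range : θ.range = K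
  ker_le : θ.ker ≤ center SL13
  sup_eq : K ⊔ Cfsg.solvableRadical G = ⊤
  commutes : ∀ k ∈ K, ∀ a ∈ Cfsg.solvableRadical G, k * a = a * k
  mem_center : ∀ M : SL13, θ M ∈ Cfsg.solvableRadical G → M ∈ center SL13

instance fact_thirteen : Fact (Nat.Prime 13) := ⟨by norm_num⟩

theorem card_sl_thirteen : Nat.card SL13 = 2184 := by
  rw [CfsgLib.SpecLin.SLTwo.card_sl_two, ZMod.card]; norm_num

theorem card_center_sl_thirteen : Nat.card (center SL13) = 2 :=
  CfsgLib.PSL2.card_center_sl (by decide)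

theorem card_psl_thirteen : Nat.card PSL13 = 1092 := by
  have h := Subgroup.card_mul_index (center SL13)
  rw [card_center_sl_thirteen, card_sl_thirteen, index_eq_card] at h
  have : Nat.card PSL13 = Nat.card (SL13 ⧸ center SL13) := rfl
  omega

theorem center_psl_thirteen (hsimple : IsSimpleGroup PSL13) (a : PSL13) (ha : ∀ b, b * a = a * b) : a = 1 := by
  rcases (inferInstance : (center PSL13).Normal).eq_bot_or_eq_top with e | e
  · exact mem_bot.1 (e ▸ mem_center_iff.2 ha)
  · exfalso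
    let A : SL13 := ⟨!![1, 1; 0, 1], by decide⟩
    let B : SL13 := ⟨!![1, 0; 1, 1], by decide⟩
    have h1 : (QuotientGroup.mk A : PSL13) * QuotientGroup.mk B = QuotientGroup.mk B * QuotientGroup.mk A :=
      (mem_center_iff.1 (e ▸ mem_top (QuotientGroup.mk B : PSL13)) _)
    rw [← QuotientGroup.mk_mul, ← QuotientGroup.mk_mul, QuotientGroup.eq] at h1
    rcases CfsgLib.SpecLin.SLTwo.mem_center_iff'.1 h1 with h2 | h2
    · exact absurd (congrFun (congrFun h2 0) 0) (by decide)
    · exact absurd (congrFun (congrFun h2 0) 0) (by decide)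

/-- Grün's lemma. -/
theorem mem_center_of_second {H : Type*} [Group H] (hperf : Group.IsPerfect H) {m : H}
    (hm : ∀ w, w * m * (m * w)⁻¹ ∈ center H) : m ∈ center H := by
  have hm' : ∀ w, w * m * w⁻¹ * m⁻¹ ∈ center H := fun w => by
    rw [show w * m * w⁻¹ * m⁻¹ = w * m * (m * w)⁻¹ by group]; exact hm w
  let c : H →* center H := MonoidHom.mk' (fun w => ⟨w * m * w⁻¹ * m⁻¹, hm' w⟩) fun v w => by
    refine Subtype.ext ?_
    have h2 := mem_center_iff.1 (hm' w)
    calc v * w * m * (v * w)⁻¹ * m⁻¹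
        = v * (w * m * w⁻¹ * m⁻¹) * (m * v⁻¹ * m⁻¹) := by group
      _ = w * m * w⁻¹ * m⁻¹ * (v * m * v⁻¹ * m⁻¹) := by rw [h2 v]; group
      _ = (v * m * v⁻¹ * m⁻¹) * (w * m * w⁻¹ * m⁻¹) := (h2 _).symm
  have hle : commutator H ≤ c.ker := by
    rw [_root_.commutator_def, commutator_le]
    intro a _ b _
    have hab : c a * c b = c b * c a := Subtype.ext (mem_center_iff.1 (c b).2 _)
    rw [MonoidHom.mem_ker, commutatorElement_def, map_mul, map_mul, map_mul, map_inv, map_inv, hab,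
      mul_inv_cancel_right, mul_inv_cancel]
  refine mem_center_iff.2 fun w => ?_
  have htop : w ∈ commutator H := by rw [hperf.commutator_eq_top]; exact mem_top w
  have hw : c w = 1 := MonoidHom.mem_ker.1 (hle htop)
  have hw' : w * m * w⁻¹ * m⁻¹ = 1 := congrArg Subtype.val hw
  exact mul_inv_eq_iff_eq_mul.1 (mul_inv_eq_one.1 hw')

theorem isPerfect_sl_thirteen : Group.IsPerfect SL13 :=
  ⟨CfsgLib.Laws.sl_two_perfect (by rw [ZMod.card]; norm_num)⟩

/-- A quasisimple group over `PSL₂(13)` is covered by `SL₂(13)`. -/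
theorem exists_sl_cover {K : Type u} [Group K] [Finite K] (hq : Cfsg.IsQuasisimple K)
    (e0 : K ⧸ center K ≃* PSL13) :
    ∃ η : SL13 →* K, Function.Surjective η ∧ η.ker ≤ center SL13 := by
  have hc13 : Fintype.card (ULift.{u} (ZMod 13)) = 13 := by rw [Fintype.card_ulift, ZMod.card]
  obtain ⟨η, hηs, hηk, -⟩ := CfsgLib.CTwoAbelian.exists_of_psl_two hq (F := ULift.{u} (ZMod 13))
    (by omega) (by omega) (by omega) (e0.trans (CfsgLib.CTwoAbelian.pslLift.{u} (ZMod 13)))
  let up : SL13 →* Matrix.SpecialLinearGroup (Fin 2) (ULift.{u} (ZMod 13)) :=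
    Matrix.SpecialLinearGroup.map (ULift.ringEquiv (R := ZMod 13)).symm.toRingHom
  let down : Matrix.SpecialLinearGroup (Fin 2) (ULift.{u} (ZMod 13)) →* SL13 :=
    Matrix.SpecialLinearGroup.map (ULift.ringEquiv (R := ZMod 13)).toRingHom
  let E : SL13 ≃* Matrix.SpecialLinearGroup (Fin 2) (ULift.{u} (ZMod 13)) :=
    MonoidHom.toMulEquiv up down (by ext; simp [up, down]) (by ext; simp [up, down])
  refine ⟨η.comp E.toMonoidHom, hηs.comp E.surjective, fun M hM => ?_⟩
  have h1 : E M ∈ η.ker := hM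
  refine mem_center_iff.2 fun z => E.injective ?_
  rw [map_mul, map_mul, mem_center_iff.1 (hηk h1)]

theorem exists_cover (h : NonSubnormalMax G) (hG : ¬ Group.IsSolvable G) : Nonempty (Cover G) := by
  set R := Cfsg.solvableRadical G with hRdef
  haveI : R.Normal := CfsgLib.Structure.solvableRadical_normal
  obtain ⟨hsimp, ⟨e⟩⟩ := h.quotient_psl hG
  haveI := hsimp
  have hsimp13 : IsSimpleGroup PSL13 := e.symm.isSimpleGroup
  set φ : G →* PSL13 := e.toMonoidHom.comp (QuotientGroup.mk' R) with hφdef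
  have hφs : Function.Surjective φ := e.surjective.comp (QuotientGroup.mk'_surjective R)
  have hφk : φ.ker = R := by
    ext g
    simp [φ, MonoidHom.mem_ker]
  obtain ⟨K, hK⟩ := ({N : Subgroup G | N.Normal ∧ N ⊔ R = ⊤}).toFinite.exists_minimal
    ⟨⊤, inferInstance, top_sup_eq _⟩
  haveI := hK.prop.1
  have hsup : ∀ N : Subgroup G, N ⊔ R = ⊤ ↔ N.map φ = ⊤ := by
    intro N
    constructor
    · intro e
      rw [← map_top_of_surjective φ hφs, ← e, Subgroup.map_sup, (map_eq_bot_iff R).2 hφk.ge, sup_bot_eq]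
    · intro e
      have := comap_map_eq φ N
      rw [e, comap_top, hφk] at this
      exact this.symm
  have hKtop : K.map φ = ⊤ := (hsup K).1 hK.prop.2
  have hKperf : ⁅K, K⁆ = K := by
    refine le_antisymm (commutator_le_right K K) (hK.le_of_le ⟨inferInstance, ?_⟩ (commutator_le_right K K))
    refine (hsup _).2 ?_
    rw [map_commutator, hKtop]
    rcases (inferInstance : Subgroup.Normal ⁅(⊤ : Subgroup PSL13), (⊤ : Subgroup PSL13)⁆).eq_bot_or_eq_top with e1 | e1
    · exfalso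
      rw [commutator_eq_bot_iff_le_centralizer] at e1
      exact not_subsingleton PSL13 ⟨fun a b =>
        (center_psl_thirteen hsimp13 a fun c => mem_centralizer_iff.1 (e1 (mem_top a)) c (mem_top c)).trans
          (center_psl_thirteen hsimp13 b fun c => mem_centralizer_iff.1 (e1 (mem_top b)) c (mem_top c)).symm⟩
    · exact e1
  -- elements of prime power order outside the radical
  have hgen : ∀ r : ℕ, r.Prime → r ∣ Nat.card PSL13 → ∃ x : G, (∃ j, orderOf x = r ^ j) ∧ x ∉ R := by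
    intro r hr hrd
    haveI := Fact.mk hr
    obtain ⟨y, hy⟩ := exists_prime_orderOf_dvd_card' r hrd
    obtain ⟨g, rfl⟩ := hφs y
    obtain ⟨m, j, hm, hj, -⟩ := exists_prime_part (g := g) hr
    refine ⟨g ^ m, ⟨j, hj⟩, fun hR => hm ?_⟩
    rw [← hy, orderOf_dvd_iff_pow_eq_one, ← map_pow]
    exact MonoidHom.mem_ker.1 (hφk.symm ▸ hR)
  have hprime : ∀ a ∈ R, ∀ p j : ℕ, p.Prime → orderOf a = p ^ j → ∀ k ∈ K, a * k = k * a := by
    intro a ha p j hp hj
    obtain ⟨r, hr, hrp, hrd⟩ : ∃ r : ℕ, r.Prime ∧ r ≠ p ∧ r ∣ Nat.card PSL13 := by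
      by_cases h3 : p = 3
      · exact ⟨7, by norm_num, by omega, by rw [card_psl_thirteen]; norm_num⟩
      · exact ⟨3, by norm_num, fun e => h3 e.symm, by rw [card_psl_thirteen]; norm_num⟩
    set Sig := {x : G | (∃ i, orderOf x = r ^ i) ∧ x ∉ R}
    set L := closure Sig
    haveI hLn : L.Normal := by
      refine ⟨fun x hx g => ?_⟩
      have hle : L.map (MulAut.conj g).toMonoidHom ≤ L := by
        rw [MonoidHom.map_closure]
        refine closure_mono ?_
        rintro _ ⟨y, ⟨⟨i, hi⟩, hyR⟩, rfl⟩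
        refine ⟨⟨i, by rw [← hi]; exact orderOf_injective _ (MulAut.conj g).injective y⟩, fun hR => hyR ?_⟩
        have := (inferInstance : R.Normal).conj_mem _ hR g⁻¹
        simpa [mul_assoc] using this
      exact hle ⟨x, hx, rfl⟩
    have hLtop : L.map φ = ⊤ := by
      haveI : (L.map φ).Normal := hLn.map φ hφs
      refine (inferInstance : (L.map φ).Normal).eq_bot_or_eq_top.resolve_left fun e1 => ?_
      obtain ⟨x, hx, hxR⟩ := hgen r hr hrd
      exact hxR (hφk ▸ (map_eq_bot_iff L).1 e1 (subset_closure ⟨hx, hxR⟩))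
    have hKL : K ≤ L := by
      refine le_trans (hK.le_of_le ⟨inferInstance, (hsup _).2 ?_⟩ inf_le_left) inf_le_right (b := K ⊓ L)
      rw [eq_top_iff]
      calc (⊤ : Subgroup PSL13) = ⁅(⊤ : Subgroup PSL13), ⊤⁆ := by
            conv_lhs => rw [← hKtop, ← hKperf, map_commutator, hKtop]
        _ = (⁅K, L⁆).map φ := by rw [map_commutator, hKtop, hLtop]
        _ ≤ (K ⊓ L).map φ := map_mono (commutator_le_inf K L)
    have hLc : L ≤ centralizer ({a} : Set G) := by
      refine (closure_le _).2 ?_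
      rintro x ⟨⟨i, hi⟩, hxR⟩
      refine mem_centralizer_singleton_iff.2 (commute_of_normalizes hr hi.dvd ha hxR ?_ ?_).eq.symm
      · exact mem_norm_zpowers.1 (h.radical_le_norm (twoPrime_zpowers_pow hr hi.dvd)
          (fun hle => hxR (hle (mem_zpowers x))) ha)
      · rw [hj]; exact Nat.Coprime.pow_left j ((Nat.coprime_primes hp hr).2 hrp.symm)
    exact fun k hk => (mem_centralizer_singleton_iff.1 (hLc (hKL hk))).symm
  have hcomm : ∀ k ∈ K, ∀ a ∈ R, k * a = a * k := by
    intro k hk a ha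
    have htop : (centralizer (K : Set G)).subgroupOf R = ⊤ :=
      CfsgLib.Hamiltonian82.mem_of_primePow fun b hb => by
        obtain ⟨p, j, hp, hj⟩ := hb
        refine mem_subgroupOf.2 (mem_centralizer_iff.2 fun c hc => ?_)
        exact (hprime b b.2 p j hp (by rw [← hj, Subgroup.orderOf_coe]) c hc).symm
    exact mem_centralizer_iff.1 (subgroupOf_eq_top.1 htop ha) k hk
  -- the covering map
  set ψ : K →* PSL13 := φ.comp K.subtype with hψ
  have hψs : Function.Surjective ψ := by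
    intro y
    obtain ⟨k, hk, rfl⟩ := (hKtop ▸ mem_top y : y ∈ K.map φ)
    exact ⟨⟨k, hk⟩, rfl⟩
  have hψc : ψ.ker = center K := by
    refine le_antisymm (fun k hk => ?_) fun k hk => ?_
    · exact mem_center_iff.2 fun c => Subtype.ext (hcomm c c.2 k (hφk ▸ hk))
    · refine MonoidHom.mem_ker.2 (center_psl_thirteen hsimp13 _ fun b => ?_)
      obtain ⟨c, rfl⟩ := hψs b
      rw [← map_mul, ← map_mul, mem_center_iff.1 hk c]
  have hKp : Group.IsPerfect K := by
    rw [Group.isPerfect_def]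
    refine map_injective K.subtype_injective ?_
    rw [_root_.commutator_def, map_commutator, ← MonoidHom.range_eq_map, range_subtype, hKperf]
  let e0 : K ⧸ center K ≃* PSL13 :=
    (QuotientGroup.quotientMulEquivOfEq hψc.symm).trans (QuotientGroup.quotientKerEquivOfSurjective ψ hψs)
  have hq : Cfsg.IsQuasisimple K := ⟨hKp, e0.isSimpleGroup⟩
  obtain ⟨η, hηs, hηk⟩ := exists_sl_cover hq e0
  refine ⟨⟨K, K.subtype.comp η, hK.prop.1, ?_, ?_, hK.prop.2, hcomm, ?_⟩⟩
  · rw [MonoidHom.range_comp, MonoidHom.range_eq_top.2 hηs, ← MonoidHom.range_eq_map, range_subtype]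
  · intro M hM
    exact hηk (Subtype.ext hM)
  · intro M hM
    have hc : η M ∈ center K := hψc ▸ (show (η M : G) ∈ φ.ker from hφk.symm ▸ hM)
    exact mem_center_of_second isPerfect_sl_thirteen fun w => hηk (by
      rw [MonoidHom.mem_ker, map_mul, map_inv, map_mul, map_mul, mem_center_iff.1 hc, mul_inv_cancel])

namespace Cover

variable (C : Cover G)
include C

theorem mem_K (M : SL13) : C.θ M ∈ C.K := C.range ▸ ⟨M, rfl⟩

theorem comm (M : SL13) {a : G} (ha : a ∈ Cfsg.solvableRadical G) : Commute (C.θ M) a :=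
  C.commutes _ (C.mem_K M) a ha

theorem card_dvd : Nat.card C.K ∣ 2184 := by
  rw [← C.range, ← card_sl_thirteen]
  exact Subgroup.card_range_dvd C.θ

theorem theta_mem_radical {z : SL13} (hz : z ∈ center SL13) : C.θ z ∈ Cfsg.solvableRadical G := by
  haveI := C.normal
  let Z : Subgroup G := (center SL13).map C.θ
  have hZn : Z.Normal := ⟨fun a ha g => by
    obtain ⟨w, hw, rfl⟩ := ha
    obtain ⟨k, hk, b, hb, rfl⟩ : ∃ k ∈ C.K, ∃ b ∈ Cfsg.solvableRadical G, k * b = g := by
      haveI := CfsgLib.Structure.solvableRadical_normal (G := G)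
      have hg : g ∈ C.K ⊔ Cfsg.solvableRadical G := C.sup_eq ▸ mem_top g
      exact Subgroup.mem_sup_of_normal_right.1 hg
    rw [← C.range] at hk
    obtain ⟨M, rfl⟩ := hk
    refine ⟨w, hw, ?_⟩
    calc C.θ w = C.θ M * C.θ w * (C.θ M)⁻¹ := by
          rw [← map_mul, mem_center_iff.1 hw, map_mul, mul_inv_cancel_right]
      _ = C.θ M * (b * C.θ w * b⁻¹) * (C.θ M)⁻¹ := by rw [← (C.comm w hb).eq, mul_inv_cancel_right]
      _ = _ := by group⟩
  refine CfsgLib.Structure.le_solvableRadical hZn ?_ ⟨z, hz, rfl⟩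
  haveI : IsMulCommutative (center SL13) := inferInstance
  haveI : Group.IsSolvable (center SL13) := Group.isSolvable_of_comm fun a b => Subtype.ext (mem_center_iff.1 b.2 a)
  exact Group.isSolvable_of_surjective (MonoidHom.subgroupMap_surjective C.θ (center SL13))

theorem conj_normal (h : NonSubnormalMax G) {a b : G} (ha : a ∈ Cfsg.solvableRadical G)
    (hb : b ∈ Cfsg.solvableRadical G) {p j : ℕ} (hp : p.Prime) (hj : orderOf a = p ^ j) :
    b * a * b⁻¹ ∈ zpowers a := by
  obtain ⟨r, hr, hrp, M, hM, hMc⟩ : ∃ r : ℕ, r.Prime ∧ r ≠ p ∧ ∃ M : SL13, M ^ r = 1 ∧ M ∉ center SL13 := by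
    by_cases h13 : p = 13
    · refine ⟨3, by norm_num, by omega, ⟨!![3, 0; 0, 9], by decide⟩, Subtype.ext (by decide), fun hc => ?_⟩
      rcases CfsgLib.SpecLin.SLTwo.mem_center_iff'.1 hc with e | e <;>
        exact absurd (congrFun (congrFun e 0) 0) (by decide)
    · refine ⟨13, by norm_num, fun e => h13 e.symm, ⟨!![0, 1; 12, 2], by decide⟩, Subtype.ext (by decide), fun hc => ?_⟩
      rcases CfsgLib.SpecLin.SLTwo.mem_center_iff'.1 hc with e | e <;>
        exact absurd (congrFun (congrFun e 0) 1) (by decide)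
  set x := C.θ M
  have hx : orderOf x ∣ r ^ 1 := by
    rw [pow_one]; exact orderOf_dvd_of_pow_eq_one (by rw [← map_pow, hM, map_one])
  have hxa : Commute x a := C.comm M ha
  have hco : (orderOf a).Coprime (orderOf x) := by
    rw [hj]
    exact Nat.Coprime.coprime_dvd_right hx (Nat.Coprime.pow j 1 ((Nat.coprime_primes hp hr).2 hrp.symm))
  have h2 : TwoPrime (zpowers (a * x)) :=
    twoPrime_zpowers hp hr (hxa.symm.orderOf_mul_dvd_mul_orderOf.trans (Nat.mul_dvd_mul hj.dvd hx))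
  have hn : ¬ zpowers (a * x) ≤ Cfsg.solvableRadical G := fun hle => hMc (C.mem_center M
    (((Cfsg.solvableRadical G).mul_mem_cancel_left ha).1 (hle (mem_zpowers _))))
  exact mem_norm_zpowers.1 (norm_mul_le hxa.symm hco (h.radical_le_norm h2 hn hb))

theorem commute_radical (h : NonSubnormalMax G) :
    ∀ H : Subgroup (Cfsg.solvableRadical G), H.Normal := by
  intro H
  refine ⟨fun x hx b => ?_⟩
  have htop : (H.comap (MulAut.conj b).toMonoidHom).subgroupOf (zpowers x) = ⊤ := by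
    refine CfsgLib.Hamiltonian82.mem_of_primePow fun y hy => ?_
    obtain ⟨p, j, hp, hj⟩ := hy
    have hj' : orderOf (((y : Cfsg.solvableRadical G) : G)) = p ^ j := by rw [Subgroup.orderOf_coe, Subgroup.orderOf_coe, hj]
    obtain ⟨i, hi⟩ := C.conj_normal h (y : Cfsg.solvableRadical G).2 b.2 hp hj'
    refine mem_subgroupOf.2 (Subgroup.mem_comap.2 ?_)
    have e : (MulAut.conj b).toMonoidHom (y : Cfsg.solvableRadical G) = (y : Cfsg.solvableRadical G) ^ i := Subtype.ext (by
      simp only [MulEquiv.coe_toMonoidHom, MulAut.conj_apply, coe_mul, InvMemClass.coe_inv,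
        SubgroupClass.coe_zpow]
      exact hi.symm)
    rw [e]
    exact zpow_mem (zpowers_le.2 hx y.2) i
  exact subgroupOf_eq_top.1 htop (mem_zpowers x)

/-- An element of the radical of order a power of an odd prime with an inverter is trivial. -/
theorem eq_one_of_twist (h : NonSubnormalMax G) {p : ℕ} (hp : p.Prime) (hp2 : p ≠ 2) {a : G}
    (ha : a ∈ Cfsg.solvableRadical G) {j : ℕ} (hj : orderOf a ∣ p ^ j) (M W : SL13) (i : ℕ)
    (hM : M ^ p = 1) (hMc : M ∉ center SL13) (hW : W * M = M ^ i * W) (hi : ¬ (p : ℤ) ∣ (i : ℤ) - 1) :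
    a = 1 := by
  set R := Cfsg.solvableRadical G
  haveI : R.Normal := CfsgLib.Structure.solvableRadical_normal
  haveI := Fact.mk hp
  set x := C.θ M with hxdef
  have hxR : x ∉ R := fun e => hMc (C.mem_center M e)
  have hxp : x ^ p = 1 := by rw [hxdef, ← map_pow, hM, map_one]
  have hxa : Commute x a := C.comm M ha
  have hord : orderOf (x * a) ∣ p ^ (j + 1) := by
    refine orderOf_dvd_of_pow_eq_one ?_
    rw [hxa.mul_pow, orderOf_dvd_iff_pow_eq_one.1 (hj.trans (pow_dvd_pow p j.le_succ)), mul_one, pow_succ',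
      pow_mul, hxp, one_pow]
  have hn : ¬ zpowers (x * a) ≤ R := fun hle => hxR ((R.mul_mem_cancel_right ha).1 (hle (mem_zpowers _)))
  set π := QuotientGroup.mk' R
  have hπa : π a = 1 := (QuotientGroup.eq_one_iff a).2 ha
  have hWx : C.θ W * x * (C.θ W)⁻¹ = x ^ i := by
    rw [hxdef, ← map_pow, mul_inv_eq_iff_eq_mul, ← map_mul, ← map_mul, hW]
  have hk : C.θ W ∈ normalizer (zpowers (x * a) : Set G) := by
    rw [h.norm_eq_comap (twoPrime_zpowers_pow hp hord) hn, Subgroup.mem_comap, MonoidHom.map_zpowers,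
      mem_norm_zpowers, map_mul, hπa, mul_one]
    refine ⟨(i : ℤ), ?_⟩
    dsimp only
    rw [← map_inv, ← map_mul, ← map_mul, hWx, zpow_natCast, map_pow]
  obtain ⟨n, hn'⟩ := mem_norm_zpowers.1 hk
  dsimp only at hn'
  have e1 : C.θ W * (x * a) * (C.θ W)⁻¹ = x ^ (i : ℤ) * a := by
    rw [zpow_natCast, ← conj_mul, hWx, show C.θ W * a * (C.θ W)⁻¹ = a by
      rw [(C.comm W ha).eq, mul_inv_cancel_right]]
  rw [e1, hxa.mul_zpow] at hn'
  have e2 : x ^ (n - (i : ℤ)) = a ^ (1 - n) := by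
    rw [_root_.zpow_sub, _root_.zpow_sub, zpow_one, mul_inv_eq_iff_eq_mul]
    calc x ^ n = x ^ n * a ^ n * (a ^ n)⁻¹ := (mul_inv_cancel_right _ _).symm
      _ = a * (a ^ n)⁻¹ * x ^ (i : ℤ) := by
        rw [hn', mul_assoc]
        exact ((hxa.zpow_left (i : ℤ)).mul_right (hxa.zpow_zpow (i : ℤ) n).inv_right).eq
  have hd : (p : ℤ) ∣ n - i := by
    by_contra hnd
    obtain ⟨c, d, hcd⟩ := ((Nat.prime_iff_prime_int.1 hp).coprime_iff_not_dvd.2 hnd).symm
    refine hxR ?_
    have e : x = (x ^ (n - (i : ℤ))) ^ c := by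
      rw [← _root_.zpow_mul, show (n - (i : ℤ)) * c = 1 - (p : ℤ) * d by linear_combination hcd, _root_.zpow_sub,
        _root_.zpow_mul x _ d, zpow_natCast, hxp, _root_.one_zpow, inv_one, mul_one, zpow_one]
    rw [e, e2]
    exact R.zpow_mem (R.zpow_mem ha _) c
  obtain ⟨c, hc⟩ := hd
  have h1 : a ^ (1 - n) = 1 := by
    rw [← e2, hc, _root_.zpow_mul, zpow_natCast, hxp, _root_.one_zpow]
  have hnd : ¬ (p : ℤ) ∣ 1 - n := fun hd1 => hi (by
    have h5 := (dvd_add hd1 (Dvd.intro c hc.symm : (p : ℤ) ∣ n - i)).neg_right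
    rwa [show -(1 - n + (n - (i : ℤ))) = (i : ℤ) - 1 by ring] at h5)
  obtain ⟨s, t, hst⟩ := (((Nat.prime_iff_prime_int.1 hp).coprime_iff_not_dvd.2 hnd).pow_left (m := j)).symm
  have h3 : a ^ ((p : ℤ) ^ j) = 1 := by
    rw [← orderOf_dvd_iff_zpow_eq_one]; exact_mod_cast hj
  calc a = a ^ (s * (1 - n) + t * (p : ℤ) ^ j) := by rw [hst, zpow_one]
    _ = 1 := by
      rw [_root_.zpow_add, mul_comm s, mul_comm t, _root_.zpow_mul, _root_.zpow_mul, h1, h3,
        _root_.one_zpow, _root_.one_zpow, one_mul]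

theorem not_dvd_radical (h : NonSubnormalMax G) {a : G} (ha : a ∈ Cfsg.solvableRadical G) {p : ℕ}
    (hp : p = 3 ∨ p = 7 ∨ p = 13) {j : ℕ} (hj : orderOf a ∣ p ^ j) : a = 1 := by
  have hnc : ∀ M : SL13, (M : Matrix (Fin 2) (Fin 2) (ZMod 13)) 0 0 ≠ 1 →
      (M : Matrix (Fin 2) (Fin 2) (ZMod 13)) 0 0 ≠ -1 → M ∉ center SL13 := fun M h1 h2 hc => by
    rcases CfsgLib.SpecLin.SLTwo.mem_center_iff'.1 hc with e | e
    · exact h1 (by rw [e]; rfl)
    · exact h2 (by rw [e]; rfl)
  rcases hp with rfl | rfl | rfl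
  · exact C.eq_one_of_twist h (by norm_num) (by norm_num) ha hj ⟨!![3, 0; 0, 9], by decide⟩
      ⟨!![0, 1; 12, 0], by decide⟩ 2 (Subtype.ext (by decide)) (hnc _ (by decide) (by decide))
      (Subtype.ext (by decide)) (by norm_num)
  · exact C.eq_one_of_twist h (by norm_num) (by norm_num) ha hj ⟨!![0, 1; 12, 7], by decide⟩
      ⟨!![0, 5; 5, 0], by decide⟩ 6 (Subtype.ext (by decide)) (hnc _ (by decide) (by decide))
      (Subtype.ext (by decide)) (by norm_num)
  · exact C.eq_one_of_twist h (by norm_num) (by norm_num) ha hj ⟨!![0, 1; 12, 2], by decide⟩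
      ⟨!![0, 5; 5, 0], by decide⟩ 12 (Subtype.ext (by decide)) (hnc _ (by decide) (by decide))
      (Subtype.ext (by decide)) (by norm_num)

/-- A `2`-element of the radical lies in `K`. -/
theorem two_mem_K (h : NonSubnormalMax G) {a : G} (ha : a ∈ Cfsg.solvableRadical G) {j : ℕ}
    (hj : orderOf a ∣ 2 ^ j) : a ∈ C.K := by
  set R := Cfsg.solvableRadical G
  haveI : R.Normal := CfsgLib.Structure.solvableRadical_normal
  set π := QuotientGroup.mk' R
  let X : SL13 := ⟨!![5, 0; 0, 8], by decide⟩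
  let Y : SL13 := ⟨!![0, 6; 2, 0], by decide⟩
  let T : SL13 := ⟨!![2, 1; 6, 10], by decide⟩
  let N : SL13 := ⟨!![12, 0; 0, 12], by decide⟩
  have hN : N ∈ center SL13 := by
    refine CfsgLib.SpecLin.SLTwo.mem_center_iff'.2 (Or.inr ?_)
    show (!![12, 0; 0, 12] : Matrix (Fin 2) (Fin 2) (ZMod 13)) = -1
    decide
  have hπN : π (C.θ N) = 1 := (QuotientGroup.eq_one_iff _).2 (C.theta_mem_radical hN)
  set x := C.θ X with hxdef
  set y := C.θ Y with hydef
  set k := C.θ T with hkdef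
  have hkx : k * x * k⁻¹ = y := by
    rw [mul_inv_eq_iff_eq_mul, hkdef, hxdef, hydef, ← map_mul, ← map_mul]
    exact congrArg C.θ (Subtype.ext (by decide))
  have hky : π (k * y * k⁻¹) = π x * π y := by
    rw [← map_mul π, mul_inv_eq_iff_eq_mul.2 (show k * y = (x * y * C.θ N) * k by
      rw [hkdef, hxdef, hydef, ← map_mul, ← map_mul, ← map_mul, ← map_mul]
      exact congrArg C.θ (Subtype.ext (by decide))), map_mul π, hπN, mul_one]
  have hxy : Commute (π x) (π y) := by
    show π x * π y = π y * π x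
    rw [← map_mul π, ← map_mul π, show x * y = y * x * C.θ N by
      rw [hxdef, hydef, ← map_mul, ← map_mul, ← map_mul]
      exact congrArg C.θ (Subtype.ext (by decide)), map_mul π, hπN, mul_one]
  have hx2 : π x * π x = 1 := by
    rw [← map_mul π, show x * x = C.θ N by
      rw [hxdef, ← map_mul]; exact congrArg C.θ (Subtype.ext (by decide)), hπN]
  have hy2 : π y * π y = 1 := by
    rw [← map_mul π, show y * y = C.θ N by
      rw [hydef, ← map_mul]; exact congrArg C.θ (Subtype.ext (by decide)), hπN]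
  have hxR : π x ≠ 1 := fun e => by
    rcases CfsgLib.SpecLin.SLTwo.mem_center_iff'.1 (C.mem_center X ((QuotientGroup.eq_one_iff x).1 e)) with
      e1 | e1 <;> exact absurd (congrFun (congrFun e1 0) 0) (by decide)
  have hxy1 : π x * π y ≠ 1 := fun e => by
    rw [← map_mul π, hxdef, hydef, ← map_mul C.θ] at e
    rcases CfsgLib.SpecLin.SLTwo.mem_center_iff'.1 (C.mem_center _ ((QuotientGroup.eq_one_iff _).1 e)) with
      e1 | e1 <;> exact absurd (congrFun (congrFun e1 0) 0) (by decide)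
  have hxa : Commute x a := C.comm X ha
  have hya : Commute y a := C.comm Y ha
  have hπa : π a = 1 := (QuotientGroup.eq_one_iff a).2 ha
  set H := closure ({x * a, y} : Set G) with hH
  have hrep : ∀ g ∈ H, ∃ c ∈ C.K, ∃ e f : ℤ, g = c * a ^ e ∧ π c = π x ^ e * π y ^ f := by
    intro g hg
    induction hg using closure_induction with
    | mem g hg =>
      rcases hg with rfl | rfl
      · exact ⟨x, C.mem_K X, 1, 0, by rw [zpow_one], by rw [zpow_one, zpow_zero, mul_one]⟩
      · exact ⟨y, C.mem_K Y, 0, 1, by rw [zpow_zero, mul_one], by rw [zpow_zero, zpow_one, one_mul]⟩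
    | one => exact ⟨1, one_mem _, 0, 0, by simp, by simp⟩
    | mul g₁ g₂ _ _ h₁ h₂ =>
      obtain ⟨c₁, hc₁, e₁, f₁, rfl, h1⟩ := h₁
      obtain ⟨c₂, hc₂, e₂, f₂, rfl, h2⟩ := h₂
      refine ⟨c₁ * c₂, mul_mem hc₁ hc₂, e₁ + e₂, f₁ + f₂, ?_, ?_⟩
      · rw [_root_.zpow_add, mul_assoc c₁, ← mul_assoc (a ^ e₁),
          ← C.commutes c₂ hc₂ (a ^ e₁) (zpow_mem ha e₁)]
        simp only [mul_assoc]
      · rw [map_mul π, h1, h2, _root_.zpow_add, _root_.zpow_add]
        exact (hxy.zpow_zpow e₂ f₁).symm.mul_mul_mul_comm _ _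
    | inv g _ hg =>
      obtain ⟨c, hc, e, f, rfl, h1⟩ := hg
      refine ⟨c⁻¹, inv_mem hc, -e, -f, ?_, ?_⟩
      · rw [_root_.mul_inv_rev, _root_.zpow_neg]
        exact (C.commutes c⁻¹ (inv_mem hc) _ (inv_mem (zpow_mem ha e))).symm
      · rw [map_inv, h1, _root_.mul_inv_rev, _root_.zpow_neg, _root_.zpow_neg]
        exact ((hxy.zpow_zpow e f).symm.inv_inv).eq
  have hH2 : TwoPrime H := by
    refine ⟨2, 2, Nat.prime_two, Nat.prime_two, fun r hr hd => Or.inl ?_⟩
    haveI := Fact.mk hr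
    obtain ⟨⟨g, hg⟩, hgo⟩ := exists_prime_orderOf_dvd_card' r hd
    rw [Subgroup.orderOf_mk] at hgo
    obtain ⟨c, hc, e, f, rfl, h1⟩ := hrep g hg
    have hz : c * c ∈ R := by
      have h2 : π c * π c = 1 := by
        rw [h1, (hxy.zpow_zpow e f).symm.mul_mul_mul_comm, ← (Commute.refl (π x)).mul_zpow,
          ← (Commute.refl (π y)).mul_zpow, hx2, hy2, _root_.one_zpow, _root_.one_zpow, one_mul]
      exact (QuotientGroup.eq_one_iff _).1 ((map_mul π c c).trans h2)
    obtain ⟨M, hM⟩ := (C.range ▸ hc : c ∈ C.θ.range)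
    have hMc := C.mem_center (M * M) (by rw [map_mul, hM]; exact hz)
    have h4 : M ^ 4 = 1 := by
      rw [show M ^ 4 = M * M * (M * M) by simp only [pow_succ, pow_zero, one_mul, mul_assoc]]
      refine Subtype.ext ?_
      rw [Matrix.SpecialLinearGroup.coe_mul]
      rcases CfsgLib.SpecLin.SLTwo.mem_center_iff'.1 hMc with e1 | e1 <;> rw [e1] <;> simp
    have hc4 : c ^ 4 = 1 := by rw [← hM, ← map_pow, h4, map_one]
    have hr2 : r ∣ 2 ^ (2 + j) := by
      rw [← hgo]
      refine orderOf_dvd_of_pow_eq_one ?_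
      have hca : Commute c (a ^ e) := C.commutes c hc _ (zpow_mem ha e)
      rw [hca.mul_pow, pow_add, pow_mul, show c ^ 2 ^ 2 = 1 from hc4, one_pow, one_mul, ← zpow_natCast,
        ← _root_.zpow_mul, mul_comm e, _root_.zpow_mul, zpow_natCast,
        orderOf_dvd_iff_pow_eq_one.1 (hj.trans (Dvd.intro_left _ rfl)), _root_.one_zpow]
    exact (Nat.prime_dvd_prime_iff_eq hr Nat.prime_two).1 (hr.dvd_of_dvd_pow hr2)
  have hHR : ¬ H ≤ R := fun hle => hxR (by
    have h1 : π (x * a) = 1 := (QuotientGroup.eq_one_iff _).2 (hle (subset_closure (Or.inl rfl)))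
    rwa [map_mul, hπa, mul_one] at h1)
  have hkN : k ∈ normalizer (H : Set G) := by
    rw [h.norm_eq_comap hH2 hHR, Subgroup.mem_comap]
    set Hb := H.map π
    have hle : Hb.map (MulAut.conj (π k)).toMonoidHom ≤ Hb := by
      simp only [Hb, hH]
      rw [Subgroup.map_map, MonoidHom.map_closure, MonoidHom.map_closure, closure_le]
      have hxm : π x ∈ closure (π '' {x * a, y}) :=
        subset_closure ⟨x * a, Or.inl rfl, by rw [map_mul, hπa, mul_one]⟩
      have hym : π y ∈ closure (π '' {x * a, y}) := subset_closure ⟨y, Or.inr rfl, rfl⟩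
      rintro _ ⟨g, rfl | rfl, rfl⟩
      · simp only [MonoidHom.comp_apply, MulEquiv.coe_toMonoidHom, MulAut.conj_apply, map_mul π, hπa, mul_one]
        rw [← map_mul π, ← map_inv, ← map_mul π, hkx]
        exact hym
      · simp only [MonoidHom.comp_apply, MulEquiv.coe_toMonoidHom, MulAut.conj_apply]
        rw [← map_mul π, ← map_inv, ← map_mul π, hky]
        exact mul_mem hxm hym
    have he := eq_of_le_of_card_ge hle (card_map_of_injective (MulAut.conj (π k)).injective).ge
    rw [Subgroup.mem_normalizer_iff]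
    intro g
    have hg := mem_map_equiv (f := MulAut.conj (π k)) (K := Hb) (x := π k * g * (π k)⁻¹)
    rw [show Hb.map (MulAut.conj (π k)).toMonoidHom = Hb from he] at hg
    rw [hg, MulAut.conj_symm_apply]
    simp [mul_assoc]
  have hyH : y ∈ H := subset_closure (Or.inr rfl)
  have haH : a ∈ H := by
    have h1 := (Subgroup.mem_normalizer_iff.1 hkN (x * a)).1 (subset_closure (Or.inl rfl))
    have e : k * (x * a) * k⁻¹ = y * a := by
      rw [← conj_mul, hkx, show k * a * k⁻¹ = a by rw [hkdef, (C.comm T ha).eq, mul_inv_cancel_right]]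
    rw [e] at h1
    exact (H.mul_mem_cancel_left hyH).1 h1
  obtain ⟨c, hc, e, f, hce, h1⟩ := hrep a haH
  have hc1 : π c = 1 := by
    have h2 := congrArg π hce
    rwa [map_mul, map_zpow, hπa, _root_.one_zpow, mul_one, eq_comm] at h2
  rw [hc1] at h1
  have hsq : ∀ {g : G ⧸ R} {n : ℤ}, g * g = 1 → g ^ n = if Even n then 1 else g := by
    intro g n hg
    rcases Int.even_or_odd n with hn | hn
    · rw [if_pos hn]
      obtain ⟨l, rfl⟩ := hn
      rw [← two_mul, _root_.zpow_mul, zpow_two, hg, _root_.one_zpow]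
    · rw [if_neg (Int.not_even_iff_odd.2 hn)]
      obtain ⟨l, rfl⟩ := hn
      rw [zpow_add_one, _root_.zpow_mul, zpow_two, hg, _root_.one_zpow, one_mul]
  rw [hsq hx2, hsq hy2] at h1
  have he : Even e := by
    by_contra hne
    rw [if_neg hne] at h1
    split_ifs at h1
    · exact hxR (by rw [mul_one] at h1; exact h1.symm)
    · exact hxy1 h1.symm
  obtain ⟨l, rfl⟩ := he
  have hmem : a ^ (1 - (l + l)) ∈ C.K := by
    rw [_root_.zpow_sub, zpow_one]
    nth_rw 1 [hce]
    rw [mul_inv_cancel_right]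
    exact hc
  have hcop : IsCoprime ((2 : ℤ) ^ j) (1 - (l + l)) :=
    (show IsCoprime (2 : ℤ) (1 - (l + l)) from ⟨l, 1, by ring⟩).pow_left
  obtain ⟨s, t, hst⟩ := hcop
  have h3 : a ^ ((2 : ℤ) ^ j) = 1 := by
    rw [← orderOf_dvd_iff_zpow_eq_one]; exact_mod_cast hj
  have e : a = (a ^ (1 - (l + l))) ^ t := by
    calc a = a ^ (s * (2 : ℤ) ^ j + t * (1 - (l + l))) := by rw [hst, zpow_one]
      _ = _ := by
        rw [_root_.zpow_add, mul_comm s, mul_comm t, _root_.zpow_mul, h3, _root_.one_zpow, one_mul,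
          _root_.zpow_mul]
  rw [e]
  exact C.K.zpow_mem hmem t

/-- The radical is abelian. -/
theorem radical_comm (h : NonSubnormalMax G) {a b : G} (ha : a ∈ Cfsg.solvableRadical G)
    (hb : b ∈ Cfsg.solvableRadical G) : a * b = b * a := by
  set R := Cfsg.solvableRadical G
  have hn := C.commute_radical h
  have htop : center R = ⊤ := CfsgLib.Hamiltonian82.mem_of_primePow fun g hg => by
    obtain ⟨p, j, hp, hj⟩ := hg
    rcases eq_or_ne p 2 with rfl | hp2
    · refine mem_center_iff.2 fun c => Subtype.ext ?_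
      exact (C.commutes g (C.two_mem_K h g.2 (j := j) (by rw [Subgroup.orderOf_coe, hj])) c c.2).symm
    · exact CfsgLib.Hamiltonian82.central_of_odd hn (hj ▸ (hp.odd_of_ne_two hp2).pow)
  exact congrArg Subtype.val (mem_center_iff.1 (htop ▸ mem_top (⟨b, hb⟩ : R)) ⟨a, ha⟩)

end Cover

/-- The structure theorem. -/
theorem split (h : NonSubnormalMax G) (hG : ¬ Group.IsSolvable G) :
    ∃ K S : Subgroup G, K.Normal ∧ S.Normal ∧ K ⊓ S = ⊥ ∧ K ⊔ S = ⊤ ∧
      (Nonempty (K ≃* PSL13) ∨ Nonempty (K ≃* SL13)) ∧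
      IsMulCommutative S ∧ (Nat.card K).Coprime (Nat.card S) := by
  obtain ⟨C⟩ := exists_cover h hG
  set R := Cfsg.solvableRadical G
  haveI := C.normal
  let S : Subgroup G :=
    { carrier := {a | a ∈ R ∧ Odd (orderOf a)}
      one_mem' := ⟨one_mem _, by simp⟩
      mul_mem' := fun {a b} ha hb => ⟨mul_mem ha.1 hb.1, Odd.of_dvd_nat (ha.2.mul hb.2)
        (Commute.orderOf_mul_dvd_mul_orderOf (C.radical_comm h ha.1 hb.1))⟩
      inv_mem' := fun {a} ha => ⟨inv_mem ha.1, by rw [orderOf_inv]; exact ha.2⟩ }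
  haveI hSc : IsMulCommutative S := ⟨⟨fun a b => Subtype.ext (C.radical_comm h a.2.1 b.2.1)⟩⟩
  have hsplit : ∀ g : G, ∃ k ∈ C.K, ∃ s ∈ S, g = k * s := by
    intro g
    haveI := CfsgLib.Structure.solvableRadical_normal (G := G)
    have hg : g ∈ C.K ⊔ R := C.sup_eq ▸ mem_top g
    obtain ⟨k, hk, a, ha, rfl⟩ := Subgroup.mem_sup_of_normal_right.1 hg
    obtain ⟨m, j, hm, hj, he⟩ := exists_prime_part (g := a) Nat.prime_two
    have hcop : IsCoprime (m : ℤ) ((2 ^ j : ℕ) : ℤ) := Nat.isCoprime_iff_coprime.2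
      (Nat.Coprime.pow_right j ((Nat.prime_two.coprime_iff_not_dvd.2 hm).symm))
    obtain ⟨s, t, hst⟩ := hcop
    refine ⟨k * (a ^ m) ^ s, mul_mem hk (C.K.zpow_mem (C.two_mem_K h (R.pow_mem ha m) hj.dvd) s),
      (a ^ (2 ^ j)) ^ t, S.zpow_mem ⟨R.pow_mem ha _, ?_⟩ t, ?_⟩
    · rw [orderOf_pow, he, Nat.gcd_eq_right (Dvd.intro _ rfl),
        Nat.mul_div_cancel_left _ (by positivity)]
      exact Nat.odd_iff.2 (Nat.two_dvd_ne_zero.1 hm)
    · rw [mul_assoc, ← zpow_natCast a m, ← zpow_natCast a (2 ^ j), ← _root_.zpow_mul, ← _root_.zpow_mul,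
        ← _root_.zpow_add, mul_comm (m : ℤ), mul_comm ((2 ^ j : ℕ) : ℤ), hst, zpow_one]
  have hSn : S.Normal := ⟨fun a ha g => by
    obtain ⟨k, hk, s, hs, rfl⟩ := hsplit g
    have e : k * s * a * (k * s)⁻¹ = a := by
      calc k * s * a * (k * s)⁻¹ = k * (s * a * s⁻¹) * k⁻¹ := by group
        _ = k * a * k⁻¹ := by rw [C.radical_comm h hs.1 ha.1, mul_inv_cancel_right]
        _ = a := by rw [C.commutes k hk a ha.1, mul_inv_cancel_right]
    rwa [e]⟩
  have hcop : (Nat.card C.K).Coprime (Nat.card S) := by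
    refine Nat.coprime_of_dvd fun p hp hpK hpS => ?_
    haveI := Fact.mk hp
    obtain ⟨⟨a, ha⟩, hao⟩ := exists_prime_orderOf_dvd_card' p hpS
    rw [Subgroup.orderOf_mk] at hao
    have hd : p ∣ 2 ^ 3 * (3 * (7 * 13)) := by
      have := hpK.trans C.card_dvd
      norm_num at this ⊢
      exact this
    rcases hp.dvd_mul.1 hd with h2 | hd
    · have e := (Nat.prime_dvd_prime_iff_eq hp Nat.prime_two).1 (hp.dvd_of_dvd_pow h2)
      have := ha.2
      rw [hao, e] at this
      exact absurd this (by decide)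
    have hp' : p = 3 ∨ p = 7 ∨ p = 13 := by
      rcases hp.dvd_mul.1 hd with h3 | hd
      · exact Or.inl ((Nat.prime_dvd_prime_iff_eq hp Nat.prime_three).1 h3)
      rcases hp.dvd_mul.1 hd with h7 | h13
      · exact Or.inr (Or.inl ((Nat.prime_dvd_prime_iff_eq hp (by norm_num)).1 h7))
      · exact Or.inr (Or.inr ((Nat.prime_dvd_prime_iff_eq hp (by norm_num)).1 h13))
    have h1 := C.not_dvd_radical h ha.1 hp' (j := 1) (by rw [hao, pow_one])
    rw [h1, orderOf_one] at hao
    exact hp.one_lt.ne hao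
  refine ⟨C.K, S, C.normal, hSn, Subgroup.inf_eq_bot_of_coprime hcop, ?_, ?_, hSc, hcop⟩
  · rw [eq_top_iff]
    intro g _
    obtain ⟨k, hk, s, hs, rfl⟩ := hsplit g
    exact mul_mem (mem_sup_left hk) (mem_sup_right hs)
  · let e1 : C.K ≃* SL13 ⧸ C.θ.ker :=
      ((QuotientGroup.quotientKerEquivRange C.θ).trans (MulEquiv.subgroupCongr C.range)).symm
    rcases (Nat.dvd_prime Nat.prime_two).1 (card_center_sl_thirteen ▸ Subgroup.card_dvd_of_le C.ker_le) with e | e
    · exact Or.inr ⟨e1.trans ((QuotientGroup.quotientMulEquivOfEq (Subgroup.card_eq_one.1 e)).trans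
        QuotientGroup.quotientBot)⟩
    · exact Or.inl ⟨e1.trans (QuotientGroup.quotientMulEquivOfEq
        (eq_of_le_of_card_ge C.ker_le (by rw [e, card_center_sl_thirteen])))⟩

end CfsgLib.MaxNorm
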